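import Cfsg.Agent.Suzuki.Unipotent

/-!
Perfectness and simplicity of `Cfsg.Sz F m`, the Zassenhaus property, independence of ovoid points,
and the invariant alternating form.
-/

set_option autoImplicit false
set_option linter.unusedSectionVars false
set_option linter.style.haveILetI false
set_option linter.unusedVariables false
set_option linter.unusedSimpArgs false
set_option linter.unusedTactic false
set_option linter.unreachableTactic false

namespace CfsgLib.Suzuki

open scoped Matrix commutatorElement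

local notation "SL4" F:max => Matrix.SpecialLinearGroup (Fin 4) F

/-- If `N` is normal, `H` a subgroup with `N ⊔ H = ⊤` and `K ≤ H` is normal in `H` with abelian quotient,
then `commutator G ≤ N ⊔ K`. -/
theorem commutator_le_sup_of_sup_eq_top {G : Type*} [Group G] (N H K : Subgroup G) [N.Normal]
    (hNH : N ⊔ H = ⊤) (hn : ∀ h ∈ H, ∀ k ∈ K, h * k * h⁻¹ ∈ K) (hK : K ≤ H)
    (hab : ∀ h ∈ H, ∀ h' ∈ H, h * h' * h⁻¹ * h'⁻¹ ∈ K) : commutator G ≤ N ⊔ K := by
  have hall : ∀ g : G, ∃ n ∈ N, ∃ h ∈ H, n * h = g := fun g =>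
    Subgroup.mem_sup_of_normal_left.1 (hNH ▸ Subgroup.mem_top g)
  haveI hMn : (N ⊔ K).Normal := ⟨fun x hx g => by
    obtain ⟨n, hnN, h, hh, rfl⟩ := hall g
    obtain ⟨n', hn', k, hk, rfl⟩ := Subgroup.mem_sup_of_normal_left.1 hx
    have h1 : n ∈ N ⊔ K := Subgroup.mem_sup_left hnN
    have h2 : h * (n' * k) * h⁻¹ ∈ N ⊔ K := by
      rw [show h * (n' * k) * h⁻¹ = (h * n' * h⁻¹) * (h * k * h⁻¹) by group]
      exact mul_mem (Subgroup.mem_sup_left (‹N.Normal›.conj_mem n' hn' h))
        (Subgroup.mem_sup_right (hn h hh k hk))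
    rw [show n * h * (n' * k) * (n * h)⁻¹ = n * (h * (n' * k) * h⁻¹) * n⁻¹ by group]
    exact mul_mem (mul_mem h1 h2) (inv_mem h1)⟩
  rw [commutator_def, Subgroup.commutator_le]
  intro g _ g' _
  obtain ⟨n, hnN, h, hh, rfl⟩ := hall g
  obtain ⟨n', hn', h', hh', rfl⟩ := hall g'
  have e1 : (QuotientGroup.mk n : G ⧸ (N ⊔ K)) = 1 :=
    (QuotientGroup.eq_one_iff n).2 (Subgroup.mem_sup_left hnN)
  have e2 : (QuotientGroup.mk n' : G ⧸ (N ⊔ K)) = 1 :=
    (QuotientGroup.eq_one_iff n').2 (Subgroup.mem_sup_left hn')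
  have e3 : (QuotientGroup.mk (h * h' * h⁻¹ * h'⁻¹) : G ⧸ (N ⊔ K)) = 1 :=
    (QuotientGroup.eq_one_iff _).2 (Subgroup.mem_sup_right (hab h hh h' hh'))
  rw [← QuotientGroup.eq_one_iff, ← e3]
  simp only [commutatorElement_def, QuotientGroup.mk_mul, QuotientGroup.mk_inv, e1, e2, one_mul]

variable {F : Type*} [Field F] [Fintype F] {m : ℕ}

theorem commutator_sz_eq_top (hS : SzField F m) : commutator (Cfsg.Sz F m) = ⊤ := by
  have := hS.charP
  set D := commutator (Cfsg.Sz F m) with hD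
  have hc : ∀ g h : Cfsg.Sz F m, g * h * g⁻¹ * h⁻¹ ∈ D := fun g h => by
    rw [← commutatorElement_def]
    exact Subgroup.commutator_mem_commutator (Subgroup.mem_top _) (Subgroup.mem_top _)
  have hconj : ∀ g h : Cfsg.Sz F m, h ∈ D → g * h * g⁻¹ ∈ D := fun g h hh =>
    (inferInstance : D.Normal).conj_mem h hh g
  obtain ⟨c, hc0, hcne⟩ := exists_θ_ne hS
  let ν : Fˣ := Units.mk0 c hc0
  have hν1 : (ν : F) ≠ 1 := fun h => hcne (by simp [ν] at h; simp [h])
  have hνθ : (ν : F) * θ m (ν : F) ≠ 1 := fun h => hν1 (self_mul_θ_injective hS (by simpa using h))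
  have hstep : ∀ a b : F, uniEl hS (ν * a) (ν * θ m (ν : F) * b) * uniEl hS a (b + θ m a * a) ∈ D := by
    intro a b
    have := hc (torSz hS ν) (uniEl hS a b)
    rwa [torSz_conj_uniEl, uniEl_inv] at this
  have hZ : ∀ b : F, uniEl hS 0 b ∈ D := by
    intro b
    have hne : (ν : F) * θ m (ν : F) + 1 ≠ 0 := fun h => hνθ (CharTwo.add_eq_zero.1 h)
    have := hstep 0 (b / ((ν : F) * θ m (ν : F) + 1))
    rw [uniEl_mul] at this
    simp only [mul_zero, zero_add, add_zero, θ_zero, zero_mul] at this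
    convert this using 2
    field_simp
  have hU : ∀ a b : F, uniEl hS a b ∈ D := by
    intro a b
    have hne : (ν : F) + 1 ≠ 0 := fun h => hν1 (CharTwo.add_eq_zero.1 h)
    have h1 := hstep (a / ((ν : F) + 1)) 0
    rw [uniEl_mul] at h1
    have hx : (ν : F) * (a / ((ν : F) + 1)) + a / ((ν : F) + 1) = a := by field_simp
    rw [hx] at h1
    set b' := (ν : F) * θ m (ν : F) * 0 +
      (0 + θ m (a / ((ν : F) + 1)) * (a / ((ν : F) + 1))) +
      θ m ((ν : F) * (a / ((ν : F) + 1))) * (a / ((ν : F) + 1))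
    have := mul_mem h1 (hZ (b + b'))
    rw [uniEl_mul] at this
    convert this using 2
    · simp
    · linear_combination (-b') * hS.two_eq_zero
  have hT : ∀ μ : Fˣ, torSz hS μ ∈ D := by
    intro μ
    obtain ⟨x, hx⟩ := (pow_two_pow_bijective hS 1).2 ((μ : F)⁻¹)
    simp only [pow_one] at hx
    have hx0 : x ≠ 0 := fun h => by simp [h] at hx; exact μ.ne_zero hx.symm
    have h1 := hc (weylEl hS) (torSz hS (Units.mk0 x hx0))
    have e : weylEl hS * torSz hS (Units.mk0 x hx0) * (weylEl hS)⁻¹ * (torSz hS (Units.mk0 x hx0))⁻¹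
        = torSz hS μ := by
      have hw : (weylEl hS)⁻¹ = weylEl hS := inv_eq_of_mul_eq_one_right (Subtype.ext weyl_mul_weyl)
      have hwt : weylEl hS * torSz hS (Units.mk0 x hx0) * weylEl hS = torSz hS (Units.mk0 x hx0)⁻¹ :=
        Subtype.ext (weyl_conj_tor _)
      rw [hw, hwt, ← map_inv, ← map_mul]
      congr 1
      apply Units.ext
      rw [Units.val_mul, Units.val_inv_eq_inv_val, Units.val_mk0, ← mul_inv, ← pow_two, hx, inv_inv]
    rwa [e] at h1
  have hB : ∀ g : Cfsg.Sz F m,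
      (g : SL4 F) • Cfsg.suzukiPointInfinity F = Cfsg.suzukiPointInfinity F → g ∈ D := by
    intro g hg
    obtain ⟨a, b, μ, rfl⟩ := pointStab_eq hS hg
    exact mul_mem (hU a b) (hT μ)
  have hW : weylEl hS ∈ D := by
    have hf : szF m (1 : F) 1 = 1 := by
      simp [szF, CharTwo.add_self_eq_zero]
    have hfix : (weyl : SL4 F) • affPt m (1 : F) 1 = affPt m 1 1 := by
      rw [weyl_smul_aff hS (Or.inl one_ne_zero), hf]; simp
    obtain ⟨k, hk, hkp⟩ := exists_smul_eq_infinity hS (affPt_mem (m := m) (1 : F) 1)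
    have h1 : (⟨k, hk⟩ : Cfsg.Sz F m) * weylEl hS * (⟨k, hk⟩ : Cfsg.Sz F m)⁻¹ ∈ D := by
      refine hB _ ?_
      show (k * weyl * k⁻¹) • _ = _
      rw [← hkp, mul_smul, mul_smul, inv_smul_smul, hfix]
    have h2 := hconj (⟨k, hk⟩ : Cfsg.Sz F m)⁻¹ _ h1
    convert h2 using 1
    group
  refine eq_top_iff.2 fun g _ => ?_
  rcases bruhat hS g with ⟨a, b, μ, rfl⟩ | ⟨x, y, a, b, μ, rfl⟩
  · exact mul_mem (hU a b) (hT μ)
  · exact mul_mem (mul_mem (hU x y) hW) (mul_mem (hU a b) (hT μ))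

theorem sz_nontrivial (hS : SzField F m) : Nontrivial (Cfsg.Sz F m) :=
  ⟨uniEl hS 1 0, 1, by rw [← uniEl_zero hS, Ne, uniEl_eq_iff]; simp⟩

/-- The Suzuki group is simple. -/
theorem isSimpleGroup_sz (hS : SzField F m) : IsSimpleGroup (Cfsg.Sz F m) := by
  have := hS.charP
  haveI := sz_nontrivial hS
  haveI := sz_faithful hS
  haveI := sz_two_pretransitive hS
  haveI : MulAction.IsPreprimitive (Cfsg.Sz F m) (Cfsg.suzukiOvoid F m) :=
    MulAction.isPreprimitive_of_is_two_pretransitive (sz_two_pretransitive hS)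
  refine ⟨fun N hN => ?_⟩
  by_cases hbot : N = ⊥
  · exact Or.inl hbot
  right
  have hfix : MulAction.fixedPoints N (Cfsg.suzukiOvoid F m) ≠ Set.univ := by
    intro hall
    refine hbot ((Subgroup.eq_bot_iff_forall N).2 fun n hn => ?_)
    refine FaithfulSMul.eq_of_smul_eq_smul (α := Cfsg.suzukiOvoid F m) fun p => ?_
    rw [one_smul]
    have hp : p ∈ MulAction.fixedPoints N (Cfsg.suzukiOvoid F m) := hall ▸ Set.mem_univ p
    exact hp ⟨n, hn⟩
  haveI := MulAction.IsQuasiPreprimitive.isPretransitive_of_normal hfix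
  let H : Subgroup (Cfsg.Sz F m) :=
    MulAction.stabilizer (Cfsg.Sz F m) (Cfsg.suzukiPointInfinity F)
  have hNH : N ⊔ H = ⊤ := by
    refine eq_top_iff.2 fun g _ => ?_
    obtain ⟨n, hn⟩ := MulAction.exists_smul_eq N (ovoidInf (F := F) (m := m)) (g • ovoidInf)
    have hh : (n : Cfsg.Sz F m)⁻¹ * g ∈ H := by
      have hn' : (n : Cfsg.Sz F m) • ovoidInf = g • ovoidInf (F := F) (m := m) := hn
      have := congrArg Subtype.val (show ((n : Cfsg.Sz F m)⁻¹ * g) • ovoidInf = ovoidInf (F := F) (m := m) by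
        rw [mul_smul, ← hn', inv_smul_smul])
      exact this
    have := Subgroup.mul_mem_sup n.2 hh
    rwa [mul_inv_cancel_left] at this
  have hUH : uniSub hS ≤ H := by
    rintro _ ⟨a, b, rfl⟩; exact uniEl_smul_infinity hS a b
  have hdec : ∀ g ∈ H, ∃ (a b : F) (μ : Fˣ), g = uniEl hS a b * torSz hS μ := fun g hg =>
    pointStab_eq hS hg
  have step1 : N ⊔ uniSub hS = ⊤ := by
    refine eq_top_iff.2 (le_trans (commutator_sz_eq_top hS).ge
      (commutator_le_sup_of_sup_eq_top N H (uniSub hS) hNH ?_ hUH ?_))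
    · intro h hh k hk
      obtain ⟨a, b, μ, rfl⟩ := hdec h hh
      obtain ⟨c, d, rfl⟩ := hk
      rw [show uniEl hS a b * torSz hS μ * uniEl hS c d * (uniEl hS a b * torSz hS μ)⁻¹ =
        uniEl hS a b * (torSz hS μ * uniEl hS c d * (torSz hS μ)⁻¹) * (uniEl hS a b)⁻¹ by group,
        torSz_conj_uniEl]
      exact mul_mem (mul_mem (uniEl_mem hS _ _) (uniEl_mem hS _ _)) (inv_mem (uniEl_mem hS _ _))
    · intro h hh h' hh'
      obtain ⟨a, b, μ, rfl⟩ := hdec h hh
      obtain ⟨c, d, ν, rfl⟩ := hdec h' hh'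
      have hcm : torSz hS μ * torSz hS ν = torSz hS ν * torSz hS μ := by
        rw [← map_mul, ← map_mul, mul_comm]
      rw [show uniEl hS a b * torSz hS μ * (uniEl hS c d * torSz hS ν) *
          (uniEl hS a b * torSz hS μ)⁻¹ * (uniEl hS c d * torSz hS ν)⁻¹ =
        uniEl hS a b * (torSz hS μ * uniEl hS c d * (torSz hS μ)⁻¹) *
          ((torSz hS μ * torSz hS ν) * (torSz hS μ)⁻¹ * (torSz hS ν)⁻¹) *
          (torSz hS ν * (uniEl hS a b)⁻¹ * (torSz hS ν)⁻¹) * (uniEl hS c d)⁻¹ by group, hcm,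
        torSz_conj_uniEl, uniEl_inv hS a b, torSz_conj_uniEl,
        mul_inv_cancel_right, mul_inv_cancel, mul_one]
      exact mul_mem (mul_mem (mul_mem (uniEl_mem hS _ _) (uniEl_mem hS _ _)) (uniEl_mem hS _ _))
        (inv_mem (uniEl_mem hS _ _))
  have step2 : N ⊔ uniCenter hS = ⊤ := by
    refine eq_top_iff.2 (le_trans (commutator_sz_eq_top hS).ge
      (commutator_le_sup_of_sup_eq_top N (uniSub hS) (uniCenter hS) step1 ?_ (uniCenter_le hS) ?_))
    · rintro _ ⟨a, b, rfl⟩ _ ⟨d, rfl⟩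
      exact ⟨d, by
        rw [uniEl_inv, uniEl_mul, uniEl_mul, uniEl_eq_iff]
        constructor
        · simpa using CharTwo.add_self_eq_zero a
        · simp only [add_zero, mul_zero]
          linear_combination (b + θ m a * a) * hS.two_eq_zero⟩
    · rintro _ ⟨a, b, rfl⟩ _ ⟨c, d, rfl⟩
      exact ⟨_, uniEl_comm hS a b c d⟩
  refine eq_top_iff.2 (le_trans (commutator_sz_eq_top hS).ge
    (le_of_le_of_eq (commutator_le_sup_of_sup_eq_top N (uniCenter hS) ⊥ step2 ?_ bot_le ?_)
      (sup_bot_eq N)))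
  · intro h _ k hk
    simp only [Subgroup.mem_bot] at hk ⊢
    simp [hk]
  · rintro _ ⟨b, rfl⟩ _ ⟨d, rfl⟩
    rw [Subgroup.mem_bot, uniEl_comm, ← uniEl_zero hS, uniEl_eq_iff]
    simp

theorem sz_fix_two (hS : SzField F m) :
    ∃ g : Cfsg.Sz F m, g ≠ 1 ∧ ∃ a b : Cfsg.suzukiOvoid F m, a ≠ b ∧ g • a = a ∧ g • b = b := by
  obtain ⟨c, hc0, hcne⟩ := exists_θ_ne hS
  refine ⟨torSz hS (Units.mk0 c hc0), fun h => ?_, ovoidInf, ovoidZero,
    fun h => infinity_ne_zero (congrArg Subtype.val h), Subtype.ext (tor_smul_infinity _),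
    Subtype.ext (tor_smul_zero hS _)⟩
  have : (c : F) = 1 := congrArg Units.val (torSz_injective hS (h.trans (map_one _).symm))
  exact hcne (by simp [this])

theorem isZassenhaus_sz (hS : SzField F m) :
    Cfsg.IsZassenhausGroup (Cfsg.Sz F m) (Cfsg.suzukiOvoid F m) := by
  refine ⟨sz_faithful hS, sz_two_pretransitive hS, ?_, sz_fix_two hS, ?_⟩
  · intro g a b c hab hbc hac ha hb hc
    exact Subtype.ext (sz_fix_three hS _ g.2 a.2 b.2 c.2 (fun h => hab (Subtype.ext h))
      (fun h => hbc (Subtype.ext h)) (fun h => hac (Subtype.ext h)) (congrArg Subtype.val ha)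
      (congrArg Subtype.val hb) (congrArg Subtype.val hc))
  · intro N hN hNt
    haveI := isSimpleGroup_sz hS
    rcases hN.eq_bot_or_eq_top with rfl | rfl
    · exfalso
      obtain ⟨n, hn⟩ := MulAction.exists_smul_eq (⊥ : Subgroup (Cfsg.Sz F m))
        (ovoidInf (F := F) (m := m)) ovoidZero
      rw [Subsingleton.elim n 1, one_smul] at hn
      exact infinity_ne_zero (congrArg Subtype.val hn)
    · refine ⟨ovoidInf, fun h => ?_⟩
      have hm : (⟨uniEl hS 1 0, Subgroup.mem_top _⟩ : (⊤ : Subgroup (Cfsg.Sz F m))) ∈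
          MulAction.stabilizer (⊤ : Subgroup (Cfsg.Sz F m)) (ovoidInf (F := F) (m := m)) :=
        Subtype.ext (uni_smul_infinity 1 0)
      rw [h, Subgroup.mem_bot] at hm
      have := congrArg Subtype.val hm
      simp only [Subgroup.coe_one, ← uniEl_zero hS, uniEl_eq_iff] at this
      exact one_ne_zero this.1

/-- Every element of `Cfsg.Sz` preserves the antidiagonal alternating form. -/
theorem sz_preserves_form (hS : SzField F m) (g : Cfsg.Sz F m) :
    ((g : SL4 F) : Matrix (Fin 4) (Fin 4) F).transpose * Cfsg.suzukiForm F *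
      ((g : SL4 F) : Matrix (Fin 4) (Fin 4) F) = Cfsg.suzukiForm F := by
  have := hS.charP
  let P : Matrix (Fin 4) (Fin 4) F → Prop := fun M => M.transpose * Cfsg.suzukiForm F * M = Cfsg.suzukiForm F
  have hmul : ∀ A B, P A → P B → P (A * B) := by
    intro A B hA hB
    show (A * B).transpose * Cfsg.suzukiForm F * (A * B) = Cfsg.suzukiForm F
    rw [Matrix.transpose_mul, show B.transpose * A.transpose * Cfsg.suzukiForm F * (A * B) =
      B.transpose * (A.transpose * Cfsg.suzukiForm F * A) * B by simp only [Matrix.mul_assoc]]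
    rw [show A.transpose * Cfsg.suzukiForm F * A = Cfsg.suzukiForm F from hA]
    exact hB
  have hu : ∀ a b : F, P (uniMat m a b) := by
    intro a b
    show (uniMat m a b).transpose * Cfsg.suzukiForm F * uniMat m a b = Cfsg.suzukiForm F
    ext i j
    fin_cases i <;> fin_cases j <;>
      simp [uniMat, Cfsg.suzukiForm, szF, Matrix.mul_apply, Fin.sum_univ_succ, Matrix.vecHead,
        Matrix.vecTail] <;>
      ring_nf <;> simp [hS.two_eq_zero, hS.three_eq_one, hS.four_eq_zero]
  have ht : ∀ μ : Fˣ, P (torMat m μ) := by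
    intro μ
    show (torMat m μ).transpose * Cfsg.suzukiForm F * torMat m μ = Cfsg.suzukiForm F
    have h1 : (μ : F) ^ (2 ^ m) ≠ 0 := pow_ne_zero _ μ.ne_zero
    ext i j
    fin_cases i <;> fin_cases j <;>
      simp [torMat, Cfsg.suzukiForm, Matrix.mul_apply, Fin.sum_univ_succ, Matrix.vecHead,
        Matrix.vecTail]
  have hw : P weylMat := by
    show weylMat.transpose * Cfsg.suzukiForm F * weylMat = Cfsg.suzukiForm F
    ext i j
    fin_cases i <;> fin_cases j <;>
      simp [weylMat, Cfsg.suzukiForm, Matrix.mul_apply, Fin.sum_univ_succ]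
  show P ((g : SL4 F) : Matrix (Fin 4) (Fin 4) F)
  rcases bruhat hS g with ⟨a, b, μ, rfl⟩ | ⟨x, y, a, b, μ, rfl⟩
  · exact hmul _ _ (hu a b) (ht μ)
  · exact hmul _ _ (hmul _ _ (hu x y) hw) (hmul _ _ (hu a b) (ht μ))

/-- Three distinct ovoid points are projectively independent. -/
theorem ovoid_independent (hS : SzField F m) (p : Fin 3 ↪ Cfsg.suzukiOvoid F m) :
    Projectivization.Independent (fun i => (p i : Projectivization F (Fin 4 → F))) := by
  obtain ⟨k, hk, hk0, hk1⟩ := exists_smul_eq_base hS (p 0).2 (p 1).2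
    (fun h => absurd (p.injective (Subtype.ext h)) (by decide))
  have hk2 : k • (p 2 : Projectivization F (Fin 4 → F)) ∈ Cfsg.suzukiOvoid F m :=
    (MulAction.mem_stabilizer_set.1 hk _).2 (p 2).2
  rcases mem_suzukiOvoid_iff.1 hk2 with h | ⟨x, y, h⟩
  · exact absurd (p.injective (Subtype.ext ((smul_left_cancel_iff k).1 (hk0.trans h.symm))))
      (by decide)
  have hxy : ¬ (x = 0 ∧ y = 0) := by
    rintro ⟨rfl, rfl⟩
    rw [affPt_zero] at h
    exact absurd (p.injective (Subtype.ext ((smul_left_cancel_iff k).1 (hk1.trans h.symm))))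
      (by decide)
  let w : Fin 3 → (Fin 4 → F) := ![![1, 0, 0, 0], ![0, 0, 0, 1], affVec m x y]
  have hw : LinearIndependent F w := by
    rw [Fintype.linearIndependent_iff]
    intro g hg
    have e0 := congrFun hg 0
    have e1 := congrFun hg 1
    have e2 := congrFun hg 2
    have e3 := congrFun hg 3
    simp [w, affVec, Fin.sum_univ_three] at e0 e1 e2 e3
    have g2 : g 2 = 0 := by
      rcases e1 with h | h
      · exact h
      · exact e2.resolve_right fun h' => hxy ⟨h', h⟩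
    intro i
    fin_cases i
    · simpa [g2] using e0
    · simpa [g2] using e3
    · exact g2
  have hne : ∀ i, w i ≠ 0 := hw.ne_zero
  let v : Fin 3 → (Fin 4 → F) := fun i => (k⁻¹ : SL4 F) • w i
  have hv : LinearIndependent F v := by
    have := hw.map' (DistribMulAction.toLinearEquiv F (Fin 4 → F) (k⁻¹ : SL4 F)).toLinearMap
      (LinearEquiv.ker _)
    exact this
  have hmk : ∀ i, (p i : Projectivization F (Fin 4 → F)) =
      Projectivization.mk F (v i) ((smul_ne_zero_iff_ne _).2 (hne i)) := by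
    intro i
    rw [← Projectivization.smul_mk (k⁻¹ : SL4 F) (hne i), eq_inv_smul_iff]
    fin_cases i
    · exact hk0
    · exact hk1
    · exact h
  rw [funext hmk]
  exact .mk v _ hv

end CfsgLib.Suzuki
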