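import Cfsg.Prelude.Def_Sz
import Cfsg.Agent.Suzuki.Simple

/-!
The group `Cfsg.Lie.Sz F (2 ^ (m+1))` (elements of `Sp₄` with `g* = g^θ`) equals the ovoid stabiliser
`Cfsg.Sz F m` inside `GL₄`: `lieSz_eq`, `lieSzEquiv`.
-/

set_option autoImplicit false
set_option linter.unusedSectionVars false
set_option linter.unusedVariables false
set_option linter.unusedSimpArgs false
set_option linter.unusedTactic false
set_option linter.unreachableTactic false

namespace CfsgLib.Suzuki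

open scoped Matrix

local notation "SL4" F:max => Matrix.SpecialLinearGroup (Fin 4) F

variable {F : Type*} [Field F] [Fintype F] {m : ℕ}

/-- `M` is one of the matrices defining `Cfsg.Lie.Sz`. -/
def IsSzMat (m : ℕ) (M : Matrix (Fin 4) (Fin 4) F) : Prop :=
  (∀ u v, Cfsg.Lie.altForm4 (M *ᵥ u) (M *ᵥ v) = Cfsg.Lie.altForm4 u v) ∧
    Cfsg.Lie.star4 M = M.map (θ m)

theorem altForm4_eq (u v : Fin 4 → F) :
    Cfsg.Lie.altForm4 u v = u ⬝ᵥ (Cfsg.suzukiForm F *ᵥ v) := by
  simp [Cfsg.Lie.altForm4, Cfsg.suzukiForm, Matrix.mulVec, dotProduct, Fin.sum_univ_succ]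
  ring

theorem form_of_transpose {M : Matrix (Fin 4) (Fin 4) F}
    (h : M.transpose * Cfsg.suzukiForm F * M = Cfsg.suzukiForm F) (u v : Fin 4 → F) :
    Cfsg.Lie.altForm4 (M *ᵥ u) (M *ᵥ v) = Cfsg.Lie.altForm4 u v := by
  rw [altForm4_eq, altForm4_eq, Matrix.mulVec_mulVec, ← Matrix.vecMul_transpose,
    ← Matrix.dotProduct_mulVec, Matrix.mulVec_mulVec, ← Matrix.mul_assoc, h]

theorem transpose_of_form {M : Matrix (Fin 4) (Fin 4) F}
    (h : ∀ u v, Cfsg.Lie.altForm4 (M *ᵥ u) (M *ᵥ v) = Cfsg.Lie.altForm4 u v) :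
    M.transpose * Cfsg.suzukiForm F * M = Cfsg.suzukiForm F := by
  ext i j
  have := h (Pi.single i 1) (Pi.single j 1)
  rw [altForm4_eq, altForm4_eq, Matrix.mulVec_mulVec, ← Matrix.vecMul_transpose,
    ← Matrix.dotProduct_mulVec, Matrix.mulVec_mulVec, ← Matrix.mul_assoc] at this
  simpa using this

/-- A vector absolute for the polarity. -/
def IsAbsolute (m : ℕ) (v : Fin 4 → F) : Prop :=
  ∃ u : Fin 4 → F, Cfsg.Lie.altForm4 v u = 0 ∧
    ∀ p : Fin 4, v (Cfsg.Lie.pairOf p).1 * u (Cfsg.Lie.pairOf p).2 -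
      v (Cfsg.Lie.pairOf p).2 * u (Cfsg.Lie.pairOf p).1 = θ m (v p)

theorem IsAbsolute.image (hS : SzField F m) {M : Matrix (Fin 4) (Fin 4) F} (hM : IsSzMat m M)
    {v : Fin 4 → F} (h : IsAbsolute m v) : IsAbsolute m (M *ᵥ v) := by
  have := hS.charP
  obtain ⟨u, horth, hP⟩ := h
  refine ⟨M *ᵥ u, by rw [hM.1]; exact horth, fun p => ?_⟩
  have hstar := fun p r => congrFun (congrFun hM.2 p) r
  simp only [Cfsg.Lie.star4, Matrix.of_apply, Matrix.map_apply] at hstar
  have hJ : M * Cfsg.suzukiForm F * M.transpose = Cfsg.suzukiForm F := by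
    have hJJ : Cfsg.suzukiForm F * Cfsg.suzukiForm F = 1 := by
      ext i j
      fin_cases i <;> fin_cases j <;>
        simp [Cfsg.suzukiForm, Matrix.mul_apply, Fin.sum_univ_succ]
    have h1 : (Cfsg.suzukiForm F * M.transpose * Cfsg.suzukiForm F) * M = 1 := by
      rw [show Cfsg.suzukiForm F * M.transpose * Cfsg.suzukiForm F * M =
        Cfsg.suzukiForm F * (M.transpose * Cfsg.suzukiForm F * M) by simp only [Matrix.mul_assoc],
        transpose_of_form hM.1, hJJ]
    calc M * Cfsg.suzukiForm F * M.transpose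
        = M * Cfsg.suzukiForm F * M.transpose * (Cfsg.suzukiForm F * Cfsg.suzukiForm F) := by
          rw [hJJ, Matrix.mul_one]
      _ = (M * (Cfsg.suzukiForm F * M.transpose * Cfsg.suzukiForm F)) * Cfsg.suzukiForm F := by
          simp only [Matrix.mul_assoc]
      _ = _ := by rw [mul_eq_one_comm.1 h1, Matrix.one_mul]
  have hrow : ∀ k l, (k, l) ∈ Set.range Cfsg.Lie.pairOf →
      M k 0 * M l 3 + M k 1 * M l 2 + M k 2 * M l 1 + M k 3 * M l 0 = 0 := by
    rintro k l ⟨q, hq⟩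
    have := congrFun (congrFun hJ k) l
    simp [Matrix.mul_apply, Cfsg.suzukiForm, Fin.sum_univ_succ] at this
    fin_cases q <;> simp [Cfsg.Lie.pairOf, Prod.ext_iff] at hq <;> obtain ⟨rfl, rfl⟩ := hq <;>
      simp at this <;> linear_combination this
  set k := (Cfsg.Lie.pairOf p).1 with hk
  set l := (Cfsg.Lie.pairOf p).2 with hl
  have hθ : θ m ((M *ᵥ v) p) = θ m (M p 0) * θ m (v 0) + θ m (M p 1) * θ m (v 1) +
      θ m (M p 2) * θ m (v 2) + θ m (M p 3) * θ m (v 3) := by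
    simp only [Matrix.mulVec, dotProduct, Fin.sum_univ_succ, Fin.sum_univ_zero, θ_add hS, θ_mul,
      Fin.succ_zero_eq_one, add_zero]
    simp only [Fin.reduceSucc, add_assoc]
  rw [hθ, ← hstar p 0, ← hstar p 1, ← hstar p 2, ← hstar p 3, ← hP 0, ← hP 1, ← hP 2, ← hP 3]
  simp only [← hk, ← hl]
  have r := hrow k l ⟨p, rfl⟩
  simp only [Cfsg.Lie.altForm4] at horth
  simp [Cfsg.Lie.pairOf, Matrix.mulVec, dotProduct, Fin.sum_univ_succ]
  linear_combination (M k 0 * M l 3 - M l 0 * M k 3) * (horth - (v 3 * u 0 + v 2 * u 1) * hS.two_eq_zero)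
    + (v 1 * u 2 - v 2 * u 1) * (r - (M k 0 * M l 3 + M l 1 * M k 2) * hS.two_eq_zero)

theorem isAbsolute_smul (hS : SzField F m) {v : Fin 4 → F} (c : F) (h : IsAbsolute m v) :
    IsAbsolute m (c • v) := by
  rcases eq_or_ne c 0 with rfl | hc
  · exact ⟨0, by simp [Cfsg.Lie.altForm4], fun p => by simp⟩
  obtain ⟨u, horth, hP⟩ := h
  refine ⟨(θ m c / c) • u, ?_, fun p => ?_⟩
  · simp only [Cfsg.Lie.altForm4, Pi.smul_apply, smul_eq_mul] at horth ⊢
    linear_combination (c * (θ m c / c)) * horth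
  · simp only [Pi.smul_apply, smul_eq_mul, θ_mul, ← hP p]
    field_simp

theorem isAbsolute_iff (hS : SzField F m) {v : Fin 4 → F} (hv : v ≠ 0) :
    IsAbsolute m v ↔ Projectivization.mk F v hv ∈ Cfsg.suzukiOvoid F m := by
  have := hS.charP
  constructor
  · intro h
    by_cases h3 : v 3 = 0
    · obtain ⟨u, horth, hP⟩ := h
      have q0 := hP 0
      have q1 := hP 1
      have q2 := hP 2
      have q3 := hP 3
      simp [Cfsg.Lie.pairOf, Cfsg.Lie.altForm4, h3] at horth q0 q1 q2 q3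
      have h2 : v 2 = 0 := by
        by_contra hne
        rcases q3 with h | h
        · exact hne h
        · rw [h, mul_zero] at q2
          exact hne (θ_eq_zero.1 q2.symm)
      simp [h2] at horth q1 q2
      have h1 : v 1 = 0 := by
        by_contra hne
        have hu3 : u 3 = 0 := q2.resolve_left hne
        rw [hu3, mul_zero, zero_add] at horth
        have hu2 : u 2 = 0 := (mul_eq_zero.1 horth).resolve_left hne
        rw [hu2, mul_zero] at q1
        exact hne (θ_eq_zero.1 q1.symm)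
      rw [mem_suzukiOvoid_iff]
      refine Or.inl ((Projectivization.mk_eq_mk_iff' F _ _ _ _).2 ⟨v 0, ?_⟩)
      ext i
      fin_cases i <;> simp [h1, h2, h3]
    · have hw := isAbsolute_smul hS (v 3)⁻¹ h
      set w := (v 3)⁻¹ • v with hwdef
      have hw3 : w 3 = 1 := by simp [hwdef, h3]
      obtain ⟨u, horth, hP⟩ := hw
      have q0 := hP 0
      have q1 := hP 1
      have q2 := hP 2
      have q3 := hP 3
      simp [Cfsg.Lie.pairOf, Cfsg.Lie.altForm4, hw3, CharTwo.sub_eq_add] at horth q0 q1 q2 q3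
      have hx : w 0 = szF m (w 2) (w 1) := by
        simp only [szF]
        linear_combination w 2 * horth + q1 + (w 0 + w 2 * w 1) * q3 + w 2 * w 2 * q2
          + (w 0 - w 0 * u 2 - w 2 * u 0 - w 2 * w 0 * u 3 - w 2 * w 1 * u 2 - w 2 * w 2 * u 1
            - w 2 * w 2 * w 1 * u 3) * hS.two_eq_zero
      have hweq : w = affVec m (w 2) (w 1) := by
        ext i
        fin_cases i <;> simp [affVec, ← hx, hw3]
      rw [mem_suzukiOvoid_iff]
      refine Or.inr ⟨w 2, w 1, (Projectivization.mk_eq_mk_iff' F _ _ _ _).2 ⟨v 3, ?_⟩⟩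
      rw [← hweq, hwdef, smul_smul, mul_inv_cancel₀ h3, one_smul]
  · intro h
    rcases mem_suzukiOvoid_iff.1 h with h | ⟨x, y, h⟩
    · obtain ⟨c, hc⟩ := (Projectivization.mk_eq_mk_iff' F _ _ _ _).1 h
      rw [← hc]
      refine isAbsolute_smul hS c ⟨![0, 1, 0, 0], by simp [Cfsg.Lie.altForm4], fun p => ?_⟩
      fin_cases p <;> simp [Cfsg.Lie.pairOf]
    · obtain ⟨c, hc⟩ := (Projectivization.mk_eq_mk_iff' F _ _ _ _).1 h
      rw [← hc]
      refine isAbsolute_smul hS c ⟨![x * θ m x + y, θ m x, 1, 0], ?_, fun p => ?_⟩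
      · simp [Cfsg.Lie.altForm4, affVec]
        linear_combination (x * θ m x + y) * hS.two_eq_zero
      · fin_cases p <;>
          simp [Cfsg.Lie.pairOf, affVec, szF, CharTwo.sub_eq_add, θ_add hS, θ_mul, θ_pow, θ_θ hS] <;>
          ring_nf <;> simp [hS.two_eq_zero, hS.three_eq_one, hS.four_eq_zero]

theorem IsSzMat.det_eq_one (hS : SzField F m) {M : Matrix (Fin 4) (Fin 4) F} (hM : IsSzMat m M) :
    M.det = 1 := by
  have := hS.charP
  have h := congrArg Matrix.det (transpose_of_form hM.1)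
  rw [Matrix.det_mul, Matrix.det_mul, Matrix.det_transpose] at h
  have hJ : (Cfsg.suzukiForm F).det = 1 := by
    simp [Cfsg.suzukiForm, Matrix.det_succ_row_zero, Fin.sum_univ_succ, Fin.succAbove]
    norm_num
  rw [hJ, mul_one] at h
  exact CharTwo.sq_injective (show M.det ^ 2 = 1 ^ 2 by rw [pow_two, one_pow, h])

theorem mem_sz_of_isSzMat (hS : SzField F m) (g : SL4 F)
    (hg : IsSzMat m (g : Matrix (Fin 4) (Fin 4) F)) : g ∈ Cfsg.Sz F m := by
  rw [MulAction.mem_stabilizer_set' (Set.toFinite _)]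
  intro p hp
  induction p using Projectivization.ind with
  | h v hv =>
    rw [Projectivization.smul_mk, ← isAbsolute_iff hS]
    exact IsAbsolute.image hS hg ((isAbsolute_iff hS hv).2 hp)

theorem isSzMat_uni (hS : SzField F m) (a b : F) : IsSzMat m (uniMat m a b) := by
  have := hS.charP
  refine ⟨form_of_transpose (sz_preserves_form hS (uniEl hS a b)), ?_⟩
  ext p r
  fin_cases p <;> fin_cases r <;>
    simp [Cfsg.Lie.star4, Cfsg.Lie.pairOf, uniMat, szF, θ_add hS, θ_mul, θ_pow, θ_θ hS,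
      CharTwo.sub_eq_add] <;>
    ring_nf <;> simp [hS.two_eq_zero, hS.three_eq_one, hS.four_eq_zero]

theorem isSzMat_tor (hS : SzField F m) (μ : Fˣ) : IsSzMat m (torMat m μ) := by
  refine ⟨form_of_transpose (sz_preserves_form hS (torSz hS μ)), ?_⟩
  have h1 : (μ : F) ^ (2 ^ m) ≠ 0 := pow_ne_zero _ μ.ne_zero
  have h2 := μ.ne_zero
  have e : θ m ((μ : F) ^ (2 ^ m)) = μ := by
    refine (pow_two_pow_bijective hS 1).1 ?_
    simp only [pow_one]
    rw [← θ_pow, ← pow_mul, ← pow_succ]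
    exact θ_θ hS (μ : F)
  ext p r
  fin_cases p <;> fin_cases r <;>
    simp [Cfsg.Lie.star4, Cfsg.Lie.pairOf, torMat, θ_inv, θ_mul, pow_succ, e] <;>
    (try simp only [θ_units]) <;> field_simp

theorem isSzMat_weyl (hS : SzField F m) : IsSzMat m (weylMat : Matrix (Fin 4) (Fin 4) F) := by
  have := hS.charP
  refine ⟨form_of_transpose (sz_preserves_form hS (weylEl hS)), ?_⟩
  ext p r
  fin_cases p <;> fin_cases r <;>
    simp [Cfsg.Lie.star4, Cfsg.Lie.pairOf, weylMat, CharTwo.neg_eq]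

/-- `Cfsg.Lie.Sz` is the image of the ovoid stabiliser in `GL₄`. -/
theorem lieSz_eq (hS : SzField F m) :
    Cfsg.Lie.Sz F (2 ^ (m + 1)) = (Cfsg.Sz F m).map Matrix.SpecialLinearGroup.toGL := by
  apply le_antisymm
  · refine (Subgroup.closure_le _).2 fun g hg => ?_
    obtain ⟨h1, h2⟩ := hg
    have hM : IsSzMat m (g : Matrix (Fin 4) (Fin 4) F) := ⟨fun u v => h1 u v, h2⟩
    refine ⟨⟨(g : Matrix (Fin 4) (Fin 4) F), hM.det_eq_one hS⟩, mem_sz_of_isSzMat hS _ hM, ?_⟩
    exact Units.ext rfl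
  · rintro _ ⟨g, hg, rfl⟩
    have hgen : ∀ x : SL4 F, IsSzMat m (x : Matrix (Fin 4) (Fin 4) F) →
        Matrix.SpecialLinearGroup.toGL x ∈ Cfsg.Lie.Sz F (2 ^ (m + 1)) := fun x hx =>
      Subgroup.subset_closure ⟨fun u v => hx.1 u v, hx.2⟩
    rcases bruhat hS ⟨g, hg⟩ with ⟨a, b, μ, e⟩ | ⟨x, y, a, b, μ, e⟩
    · have e' : g = uni m a b * tor m μ := congrArg Subtype.val e
      rw [e', map_mul]
      exact mul_mem (hgen _ (isSzMat_uni hS a b)) (hgen _ (isSzMat_tor hS μ))
    · have e' : g = uni m x y * weyl * (uni m a b * tor m μ) := congrArg Subtype.val e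
      rw [e', map_mul, map_mul, map_mul]
      exact mul_mem (mul_mem (hgen _ (isSzMat_uni hS x y)) (hgen _ (isSzMat_weyl hS)))
        (mul_mem (hgen _ (isSzMat_uni hS a b)) (hgen _ (isSzMat_tor hS μ)))

theorem toGL_injective4 : Function.Injective
    (Matrix.SpecialLinearGroup.toGL : SL4 F →* GL (Fin 4) F) :=
  fun _ _ h => Subtype.ext (congrArg Units.val h)

/-- The two models of the Suzuki group are isomorphic. -/
noncomputable def lieSzEquiv (hS : SzField F m) :
    Cfsg.Sz F m ≃* Cfsg.Lie.Sz F (2 ^ (m + 1)) :=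
  ((Cfsg.Sz F m).equivMapOfInjective Matrix.SpecialLinearGroup.toGL toGL_injective4).trans
    (MulEquiv.subgroupCongr (lieSz_eq hS).symm)

end CfsgLib.Suzuki
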