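import Cfsg.Agent.Suzuki.Gens

/-!
Point stabilisers, the order and the double transitivity of `Cfsg.Sz F m`.

Main results: `two_point_stabilizer`, `point_stabilizer`, `pointStabEquiv`, `card_sz`, `sz_two_pretransitive`,
`sz_fix_three`, `sz_faithful`.
-/

set_option autoImplicit false
set_option linter.unusedSectionVars false
set_option linter.unusedSimpArgs false
set_option linter.unusedTactic false
set_option linter.unreachableTactic false

namespace CfsgLib.Suzuki

open scoped Matrix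

local notation "SL4" F:max => Matrix.SpecialLinearGroup (Fin 4) F

variable {F : Type*} [Field F] [Fintype F] {m : ℕ}

/-- Three monomials of distinct degree below `|F|` are independent as functions. -/
theorem mono3_eq_zero (hS : SzField F m) {A B C : F}
    (h : ∀ x : F, A * x ^ 2 + B * θ m x + C * (x ^ 2 * θ m x) = 0) : A = 0 ∧ B = 0 ∧ C = 0 := by
  classical
  set s := 2 ^ (m + 1) with hs
  have hs4 : 4 ≤ s := by
    calc 4 = 2 ^ 2 := by norm_num
      _ ≤ s := Nat.pow_le_pow_right (by norm_num) (by have := hS.one_le; omega)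
  have hq : s + 2 < Fintype.card F := by
    have h2 : 2 * s ≤ Fintype.card F := by
      rw [hS.card_eq, hs, ← pow_succ']
      exact Nat.pow_le_pow_right (by norm_num) (by have := hS.one_le; omega)
    omega
  let p : Polynomial F :=
    Polynomial.monomial 2 A + Polynomial.monomial s B + Polynomial.monomial (s + 2) C
  have hp : p = 0 := by
    apply Polynomial.eq_zero_of_natDegree_lt_card_of_eval_eq_zero p Function.injective_id
    · intro x
      have := h x
      simp only [θ, ← hs] at this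
      simp only [p, Polynomial.eval_add, Polynomial.eval_monomial, id]
      rw [pow_add]
      linear_combination this
    · refine lt_of_le_of_lt ?_ hq
      refine Polynomial.natDegree_le_iff_degree_le.2 ?_
      refine le_trans (Polynomial.degree_add_le _ _) (max_le ?_ ?_)
      · refine le_trans (Polynomial.degree_add_le _ _) (max_le ?_ ?_)
        · exact le_trans (Polynomial.degree_monomial_le _ _) (by exact_mod_cast (by omega : 2 ≤ s + 2))
        · exact le_trans (Polynomial.degree_monomial_le _ _) (by exact_mod_cast (by omega : s ≤ s + 2))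
      · exact Polynomial.degree_monomial_le _ _
  have c1 := congrArg (fun p => Polynomial.coeff p 2) hp
  have c2 := congrArg (fun p => Polynomial.coeff p s) hp
  have c3 := congrArg (fun p => Polynomial.coeff p (s + 2)) hp
  simp only [p, Polynomial.coeff_add, Polynomial.coeff_monomial, Polynomial.coeff_zero] at c1 c2 c3
  refine ⟨?_, ?_, ?_⟩
  · simpa [show s ≠ 2 by omega, show s + 2 ≠ 2 by omega, show s ≠ 0 by omega] using c1
  · simpa [show 2 ≠ s by omega, show s + 2 ≠ s by omega] using c2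
  · simpa [show 2 ≠ s + 2 by omega, show s ≠ s + 2 by omega, show s ≠ 0 by omega] using c3

theorem exists_szF_add_linear_eq_zero (hS : SzField F m) {u w : F} (h : u ≠ 0 ∨ w ≠ 0) :
    ∃ x y : F, (x ≠ 0 ∨ y ≠ 0) ∧ szF m x y + u * y + w * x = 0 := by
  have := hS.charP
  by_cases hu : u = 0
  · subst hu
    obtain ⟨x, hx⟩ := self_mul_θ_surjective hS (-w)
    refine ⟨x, 0, Or.inl fun h0 => ?_, ?_⟩
    · subst h0; simp at hx; simp_all
    · simp only [szF, θ_zero]
      simp only at hx
      linear_combination x * hx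
  · have hinj : Function.Injective (fun y : Fˣ => θ m (y : F) / (y : F)) := by
      intro y z hyz
      simp only at hyz
      have e : θ m ((y : F) / z) = (y : F) / z := by
        rw [div_eq_mul_inv, θ_mul, θ_inv]
        have := θ_eq_zero (m := m) (x := (z : F))
        have hz : θ m (z : F) ≠ 0 := fun h => z.ne_zero (this.1 h)
        field_simp at hyz ⊢
        linear_combination hyz
      rcases θ_fixed hS e with h | h
      · exact absurd h (div_ne_zero y.ne_zero z.ne_zero)
      · exact Units.ext ((div_eq_one_iff_eq z.ne_zero).1 h)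
    let g : Fˣ → Fˣ := fun y => Units.mk0 (θ m (y : F) / (y : F))
      (div_ne_zero (fun h => y.ne_zero (θ_eq_zero.1 h)) y.ne_zero)
    have hg : Function.Surjective g :=
      Finite.surjective_of_injective fun y z hyz => hinj (congrArg Units.val hyz)
    obtain ⟨y, hy⟩ := hg (Units.mk0 (-u) (neg_ne_zero.2 hu))
    have hy' : θ m (y : F) / (y : F) = -u := congrArg Units.val hy
    refine ⟨0, y, Or.inr y.ne_zero, ?_⟩
    have := y.ne_zero
    field_simp at hy'
    simp only [szF]
    linear_combination hy'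

theorem inv_smul_eq_of_smul_eq (g : SL4 F) {p : Projectivization F (Fin 4 → F)} (h : g • p = p) :
    g⁻¹ • p = p := inv_smul_eq_iff.2 h.symm

/-- An element of the Suzuki group fixing the two base points lies in the torus. -/
theorem two_point_stabilizer (hS : SzField F m) {g : SL4 F} (hg : g ∈ Cfsg.Sz F m)
    (hi : g • Cfsg.suzukiPointInfinity F = Cfsg.suzukiPointInfinity F)
    (h0 : g • Cfsg.suzukiPointZero F = Cfsg.suzukiPointZero F) : ∃ μ : Fˣ, g = tor m μ := by
  have := hS.charP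
  obtain ⟨a, ha⟩ := exists_of_smul_mk_eq g _ _ hi
  obtain ⟨d, hd⟩ := exists_of_smul_mk_eq g _ _ h0
  set M := (g : Matrix (Fin 4) (Fin 4) F) with hM
  have c00 : M 0 0 = a := by simpa [Matrix.mulVec, dotProduct, Fin.sum_univ_succ] using congrFun ha 0
  have c10 : M 1 0 = 0 := by simpa [Matrix.mulVec, dotProduct, Fin.sum_univ_succ] using congrFun ha 1
  have c20 : M 2 0 = 0 := by simpa [Matrix.mulVec, dotProduct, Fin.sum_univ_succ] using congrFun ha 2
  have c30 : M 3 0 = 0 := by simpa [Matrix.mulVec, dotProduct, Fin.sum_univ_succ] using congrFun ha 3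
  have c03 : M 0 3 = 0 := by simpa [Matrix.mulVec, dotProduct, Fin.sum_univ_succ] using congrFun hd 0
  have c13 : M 1 3 = 0 := by simpa [Matrix.mulVec, dotProduct, Fin.sum_univ_succ] using congrFun hd 1
  have c23 : M 2 3 = 0 := by simpa [Matrix.mulVec, dotProduct, Fin.sum_univ_succ] using congrFun hd 2
  have c33 : M 3 3 = d := by simpa [Matrix.mulVec, dotProduct, Fin.sum_univ_succ] using congrFun hd 3
  have img : ∀ x y : F, ∃ c x' y' : F, (x ≠ 0 ∨ y ≠ 0 → x' ≠ 0 ∨ y' ≠ 0) ∧ c ≠ 0 ∧
      a * szF m x y + M 0 1 * y + M 0 2 * x = c * szF m x' y' ∧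
      M 1 1 * y + M 1 2 * x = c * y' ∧ M 2 1 * y + M 2 2 * x = c * x' ∧
      M 3 1 * y + M 3 2 * x + d = c := by
    intro x y
    have hmem : g • affPt m x y ∈ Cfsg.suzukiOvoid F m :=
      (MulAction.mem_stabilizer_set.1 hg _).2 (affPt_mem x y)
    rcases mem_suzukiOvoid_iff.1 hmem with h | ⟨x', y', h⟩
    · exact absurd ((smul_left_cancel_iff g).1 (h.trans hi.symm)) (affPt_ne_infinity x y)
    obtain ⟨c, hc⟩ := exists_of_smul_mk_eq g _ _ h
    rw [← hM] at hc
    have e0 := congrFun hc 0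
    have e1 := congrFun hc 1
    have e2 := congrFun hc 2
    have e3 := congrFun hc 3
    simp [affVec, Matrix.mulVec, dotProduct, Fin.sum_univ_succ, c00, c10, c20, c30, c03, c13, c23,
      c33] at e0 e1 e2 e3
    refine ⟨c, x', y', fun hxy => ?_, fun hc0 => ?_, by linear_combination e0,
      by linear_combination e1, by linear_combination e2, by linear_combination e3⟩
    · by_contra hn
      push Not at hn
      obtain ⟨rfl, rfl⟩ := hn
      rw [affPt_zero] at h
      have e := (smul_left_cancel_iff g).1 (h.trans h0.symm)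
      rw [← affPt_zero (m := m)] at e
      obtain ⟨rfl, rfl⟩ := affPt_injective e
      simp at hxy
    · subst hc0
      rw [zero_smul, hM] at hc
      exact (smul_ne_zero_iff_ne g).2 (affVec_ne_zero (m := m) x y) hc
  have hd0 : d ≠ 0 := by
    obtain ⟨c, x', y', -, hc, -, -, -, e3⟩ := img 0 0
    simp at e3
    rwa [e3]
  have ha0 : a ≠ 0 := by
    intro ha0
    subst ha0
    rw [zero_smul, hM] at ha
    exact (smul_ne_zero_iff_ne g).2 (by simp) ha
  have c31 : M 3 1 = 0 := by
    by_contra hne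
    obtain ⟨c, x', y', -, hc, -, -, -, e3⟩ := img 0 (-d / M 3 1)
    field_simp at e3
    exact hc (by linear_combination -e3)
  have c32 : M 3 2 = 0 := by
    by_contra hne
    obtain ⟨c, x', y', -, hc, -, -, -, e3⟩ := img (-d / M 3 2) 0
    field_simp at e3
    exact hc (by linear_combination -e3)
  have c0 : M 0 1 = 0 ∧ M 0 2 = 0 := by
    by_contra hne
    have hne' : M 0 1 / a ≠ 0 ∨ M 0 2 / a ≠ 0 := by
      simp only [div_ne_zero_iff]; tauto
    obtain ⟨x, y, hxy, hz⟩ := exists_szF_add_linear_eq_zero hS hne'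
    obtain ⟨c, x', y', hx', hc, e0, -, -, -⟩ := img x y
    have : c * szF m x' y' = 0 := by
      rw [← e0]; field_simp at hz; linear_combination hz
    have := szF_eq_zero hS ((mul_eq_zero.1 this).resolve_left hc)
    have := hx' hxy
    tauto
  obtain ⟨c01, c02⟩ := c0
  set α := M 2 2 / d with hα
  set β := M 2 1 / d with hβ
  set γ := M 1 2 / d with hγ
  set δ := M 1 1 / d with hδ
  set A := a / d with hA
  have key : ∀ x y : F, szF m (α * x + β * y) (δ * y + γ * x) = A * szF m x y := by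
    intro x y
    obtain ⟨c, x', y', -, hc, e0, e1, e2, e3⟩ := img x y
    simp only [c31, c32, c01, c02, zero_mul, zero_add, add_zero] at e0 e3
    subst e3
    have hx : α * x + β * y = x' := by rw [hα, hβ]; field_simp; linear_combination e2
    have hy : δ * y + γ * x = y' := by rw [hδ, hγ]; field_simp; linear_combination e1
    rw [hx, hy, hA]; field_simp; linear_combination -e0
  obtain ⟨hαγ, hγ0, hα2⟩ := mono3_eq_zero hS (A := α * γ) (B := θ m γ)
    (C := α ^ 2 * θ m α - A) (fun x => by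
      have := key x 0
      simp only [szF, mul_zero, add_zero, zero_add, θ_mul, θ_zero] at this
      linear_combination this)
  obtain ⟨hβδ, hδA, hβ2⟩ := mono3_eq_zero hS (A := β * δ) (B := θ m δ - A)
    (C := β ^ 2 * θ m β) (fun y => by
      have := key 0 y
      simp only [szF, mul_zero, add_zero, zero_add, θ_mul, θ_zero, zero_mul,
        zero_pow (two_ne_zero : (2 : ℕ) ≠ 0)] at this
      linear_combination this)
  have hγz : γ = 0 := θ_eq_zero.1 hγ0
  have hβz : β = 0 := by
    rcases mul_eq_zero.1 hβ2 with h | h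
    · simpa using h
    · exact θ_eq_zero.1 h
  have hαA : α ^ 2 * θ m α = A := sub_eq_zero.1 hα2
  have hδA' : θ m δ = A := sub_eq_zero.1 hδA
  have hAne : A ≠ 0 := div_ne_zero ha0 hd0
  have h11 := key 1 1
  simp only [hγz, hβz, mul_one, zero_mul, add_zero, szF, one_pow, θ_one] at h11
  have hαδ : α * δ = A := by linear_combination h11 - hαA - hδA'
  have hαne : α ≠ 0 := fun h => hAne (by rw [← hαA, h]; simp)
  have hδα : δ = α * θ m α := mul_left_cancel₀ hαne (by linear_combination hαδ - hαA)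
  let μ : Fˣ := Units.mk0 α hαne
  have hθα : θ m α = α ^ (2 ^ m) * α ^ (2 ^ m) := by
    simpa [μ] using θ_units (m := m) μ
  have m12 : M 1 2 = 0 := by
    have := hγz; rw [hγ, div_eq_zero_iff] at this; exact this.resolve_right hd0
  have m21 : M 2 1 = 0 := by
    have := hβz; rw [hβ, div_eq_zero_iff] at this; exact this.resolve_right hd0
  have m22 : M 2 2 = d * α := by rw [hα]; field_simp
  have m11 : M 1 1 = d * (α * θ m α) := by rw [← hδα, hδ]; field_simp
  have m00 : M 0 0 = d * (α ^ 2 * θ m α) := by rw [hαA, hA, c00]; field_simp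
  have hdet : M.det = 1 := g.2
  simp [Matrix.det_succ_row_zero, Fin.sum_univ_succ, Fin.succAbove, c10, c20, c30, c03, c13, c23,
    c01, c02, c31, c32, m12, m21, m22, m11, m00, c33] at hdet
  have hd4 : (d * α ^ (2 ^ m + 1)) ^ 4 = 1 := by
    rw [← hdet, hθα]; ring
  have hd' : d = (α ^ (2 ^ m + 1))⁻¹ := eq_inv_of_mul_eq_one_left (pow_four_eq_one hS hd4)
  refine ⟨μ, Subtype.ext ?_⟩
  rw [← hM, tor_val]
  have hp : α ^ (2 ^ m) ≠ 0 := pow_ne_zero _ hαne
  ext i j
  fin_cases i <;> fin_cases j <;>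
    simp [torMat, μ, c10, c20, c30, c03, c13, c23, c01, c02, c31, c32, m12, m21, m22, m11, m00,
      c33, hd', hθα, pow_succ] <;>
    field_simp <;> ring

/-- An element of the Suzuki group fixing `∞` is `uni a b * tor μ`. -/
theorem point_stabilizer (hS : SzField F m) {g : SL4 F} (hg : g ∈ Cfsg.Sz F m)
    (hi : g • Cfsg.suzukiPointInfinity F = Cfsg.suzukiPointInfinity F) :
    ∃ (a b : F) (μ : Fˣ), g = uni m a b * tor m μ := by
  have hmem : g • Cfsg.suzukiPointZero F ∈ Cfsg.suzukiOvoid F m :=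
    (MulAction.mem_stabilizer_set.1 hg _).2 zero_mem
  rcases mem_suzukiOvoid_iff.1 hmem with h | ⟨a, b, h⟩
  · exact absurd ((smul_left_cancel_iff g).1 (h.trans hi.symm)) infinity_ne_zero.symm
  refine ⟨a, b, ?_⟩
  obtain ⟨μ, hμ⟩ := two_point_stabilizer hS (g := (uni m a b)⁻¹ * g)
    ((Cfsg.Sz F m).mul_mem ((Cfsg.Sz F m).inv_mem (uni_mem hS a b)) hg)
    (by rw [mul_smul, hi, inv_smul_eq_iff, uni_smul_infinity])
    (by rw [mul_smul, h, inv_smul_eq_iff, ← affPt_zero (m := m), uni_smul_aff hS]; simp)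
  exact ⟨μ, by rw [← hμ, mul_inv_cancel_left]⟩

theorem tor_smul_zero (hS : SzField F m) (μ : Fˣ) :
    tor m μ • Cfsg.suzukiPointZero F = Cfsg.suzukiPointZero F := by
  rw [← affPt_zero (m := m), tor_smul_aff hS]; simp

theorem uni_smul_zero (hS : SzField F m) (a b : F) :
    uni m a b • Cfsg.suzukiPointZero F = affPt m a b := by
  rw [← affPt_zero (m := m), uni_smul_aff hS]; simp

theorem uni_mul_tor_injective (hS : SzField F m) {a b a' b' : F} {μ μ' : Fˣ}
    (h : uni m a b * tor m μ = uni m a' b' * tor m μ') : a = a' ∧ b = b' ∧ μ = μ' := by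
  have h' := congrArg (fun g : SL4 F => g • Cfsg.suzukiPointZero F) h
  simp only [mul_smul, tor_smul_zero hS, uni_smul_zero hS] at h'
  obtain ⟨rfl, rfl⟩ := affPt_injective h'
  exact ⟨rfl, rfl, tor_injective hS (mul_left_cancel h)⟩

/-- `Sz` moves any ovoid point to `∞`. -/
theorem exists_smul_eq_infinity (hS : SzField F m) {p : Projectivization F (Fin 4 → F)}
    (hp : p ∈ Cfsg.suzukiOvoid F m) :
    ∃ g ∈ Cfsg.Sz F m, g • p = Cfsg.suzukiPointInfinity F := by
  rcases mem_suzukiOvoid_iff.1 hp with rfl | ⟨x, y, rfl⟩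
  · exact ⟨1, (Cfsg.Sz F m).one_mem, one_smul _ _⟩
  · refine ⟨weyl * (uni m x y)⁻¹,
      (Cfsg.Sz F m).mul_mem (weyl_mem hS) ((Cfsg.Sz F m).inv_mem (uni_mem hS x y)), ?_⟩
    rw [mul_smul, ← uni_smul_zero hS x y, inv_smul_smul, weyl_smul_zero]

/-- Double transitivity: any two distinct ovoid points go to `(∞, 0)`. -/
theorem exists_smul_eq_base (hS : SzField F m) {p r : Projectivization F (Fin 4 → F)}
    (hp : p ∈ Cfsg.suzukiOvoid F m) (hr : r ∈ Cfsg.suzukiOvoid F m) (hne : p ≠ r) :
    ∃ g ∈ Cfsg.Sz F m, g • p = Cfsg.suzukiPointInfinity F ∧ g • r = Cfsg.suzukiPointZero F := by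
  obtain ⟨g, hg, hgp⟩ := exists_smul_eq_infinity hS hp
  have hgr : g • r ∈ Cfsg.suzukiOvoid F m := (MulAction.mem_stabilizer_set.1 hg _).2 hr
  rcases mem_suzukiOvoid_iff.1 hgr with h | ⟨x, y, h⟩
  · exact absurd ((smul_left_cancel_iff g).1 (hgp.trans h.symm)) hne
  refine ⟨(uni m x y)⁻¹ * g,
    (Cfsg.Sz F m).mul_mem ((Cfsg.Sz F m).inv_mem (uni_mem hS x y)) hg, ?_, ?_⟩
  · rw [mul_smul, hgp, inv_smul_eq_iff, uni_smul_infinity]
  · rw [mul_smul, h, ← uni_smul_zero hS x y, inv_smul_smul]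

/-- The torus inside `Cfsg.Sz`. -/
def torSz (hS : SzField F m) : Fˣ →* Cfsg.Sz F m :=
  (tor m).codRestrict (Cfsg.Sz F m) (tor_mem hS)

theorem torSz_val (hS : SzField F m) (μ : Fˣ) : ((torSz hS μ : Cfsg.Sz F m) : SL4 F) = tor m μ :=
  rfl

theorem torSz_injective (hS : SzField F m) : Function.Injective (torSz (F := F) hS) :=
  fun _ _ h => tor_injective hS (congrArg Subtype.val h)

theorem mem_pairStab_iff (hS : SzField F m) (g : Cfsg.Sz F m) :
    g ∈ MulAction.stabilizer (Cfsg.Sz F m) (Cfsg.suzukiPointInfinity F) ⊓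
        MulAction.stabilizer (Cfsg.Sz F m) (Cfsg.suzukiPointZero F) ↔
      g ∈ (torSz hS).range := by
  constructor
  · rintro ⟨h1, h2⟩
    obtain ⟨μ, hμ⟩ := two_point_stabilizer hS g.2 h1 h2
    exact ⟨μ, Subtype.ext hμ.symm⟩
  · rintro ⟨μ, rfl⟩
    exact ⟨tor_smul_infinity μ, tor_smul_zero hS μ⟩

/-- The stabiliser of `∞` is parametrised by `(a, b, μ)`. -/
noncomputable def pointStabEquiv (hS : SzField F m) :
    (F × F) × Fˣ ≃ MulAction.stabilizer (Cfsg.Sz F m) (Cfsg.suzukiPointInfinity F) :=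
  Equiv.ofBijective
    (fun p => ⟨⟨uni m p.1.1 p.1.2 * tor m p.2,
        (Cfsg.Sz F m).mul_mem (uni_mem hS _ _) (tor_mem hS _)⟩, by
      show (uni m p.1.1 p.1.2 * tor m p.2) • Cfsg.suzukiPointInfinity F = Cfsg.suzukiPointInfinity F
      rw [mul_smul, tor_smul_infinity, uni_smul_infinity]⟩)
    ⟨by
      rintro ⟨⟨a, b⟩, μ⟩ ⟨⟨a', b'⟩, μ'⟩ h
      obtain ⟨rfl, rfl, rfl⟩ :=
        uni_mul_tor_injective hS (congrArg (fun g => ((g : Cfsg.Sz F m) : SL4 F)) (congrArg Subtype.val h))
      rfl,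
     by
      rintro ⟨⟨g, hg⟩, hi⟩
      obtain ⟨a, b, μ, rfl⟩ := point_stabilizer hS hg hi
      exact ⟨((a, b), μ), rfl⟩⟩

theorem card_pointStab (hS : SzField F m) :
    Nat.card (MulAction.stabilizer (Cfsg.Sz F m) (Cfsg.suzukiPointInfinity F)) =
      Fintype.card F ^ 2 * (Fintype.card F - 1) := by
  rw [← Nat.card_congr (pointStabEquiv hS), Nat.card_prod, Nat.card_prod, Nat.card_units,
    Nat.card_eq_fintype_card]
  ring

theorem sz_two_pretransitive (hS : SzField F m) :
    MulAction.IsMultiplyPretransitive (Cfsg.Sz F m) (Cfsg.suzukiOvoid F m) 2 := by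
  rw [MulAction.is_two_pretransitive_iff]
  intro a b c d hab hcd
  obtain ⟨g, hg, hga, hgb⟩ := exists_smul_eq_base hS a.2 b.2 (fun h => hab (Subtype.ext h))
  obtain ⟨k, hk, hkc, hkd⟩ := exists_smul_eq_base hS c.2 d.2 (fun h => hcd (Subtype.ext h))
  refine ⟨⟨k⁻¹ * g, (Cfsg.Sz F m).mul_mem ((Cfsg.Sz F m).inv_mem hk) hg⟩,
    Subtype.ext ?_, Subtype.ext ?_⟩
  · show (k⁻¹ * g) • (a : Projectivization F (Fin 4 → F)) = c
    rw [mul_smul, hga, ← hkc, inv_smul_smul]
  · show (k⁻¹ * g) • (b : Projectivization F (Fin 4 → F)) = d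
    rw [mul_smul, hgb, ← hkd, inv_smul_smul]

theorem sz_pretransitive (hS : SzField F m) :
    MulAction.IsPretransitive (Cfsg.Sz F m) (Cfsg.suzukiOvoid F m) := by
  refine ⟨fun a c => ?_⟩
  obtain ⟨g, hg, hga⟩ := exists_smul_eq_infinity hS a.2
  obtain ⟨k, hk, hkc⟩ := exists_smul_eq_infinity hS c.2
  refine ⟨⟨k⁻¹ * g, (Cfsg.Sz F m).mul_mem ((Cfsg.Sz F m).inv_mem hk) hg⟩, Subtype.ext ?_⟩
  show (k⁻¹ * g) • (a : Projectivization F (Fin 4 → F)) = c
  rw [mul_smul, hga, ← hkc, inv_smul_smul]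

/-- `∞` as a point of the ovoid. -/
def ovoidInf : Cfsg.suzukiOvoid F m := ⟨Cfsg.suzukiPointInfinity F, infinity_mem⟩

/-- `0` as a point of the ovoid. -/
def ovoidZero : Cfsg.suzukiOvoid F m := ⟨Cfsg.suzukiPointZero F, zero_mem⟩

theorem stabilizer_ovoid (p : Cfsg.suzukiOvoid F m) :
    MulAction.stabilizer (Cfsg.Sz F m) p =
      MulAction.stabilizer (Cfsg.Sz F m) (p : Projectivization F (Fin 4 → F)) := by
  ext g
  exact ⟨fun h => congrArg Subtype.val h, fun h => Subtype.ext h⟩

/-- The order of the Suzuki group. -/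
theorem card_sz (hS : SzField F m) :
    Nat.card (Cfsg.Sz F m) =
      Fintype.card F ^ 2 * (Fintype.card F ^ 2 + 1) * (Fintype.card F - 1) := by
  have := sz_pretransitive hS
  rw [← Subgroup.card_mul_index (MulAction.stabilizer (Cfsg.Sz F m) (ovoidInf (F := F) (m := m))),
    MulAction.index_stabilizer_of_transitive, card_suzukiOvoid, stabilizer_ovoid, ovoidInf,
    card_pointStab hS]
  ring

/-- An element fixing three points of the ovoid is trivial. -/
theorem sz_fix_three (hS : SzField F m) (g : SL4 F) (hg : g ∈ Cfsg.Sz F m)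
    {p r s : Projectivization F (Fin 4 → F)} (hp : p ∈ Cfsg.suzukiOvoid F m)
    (hr : r ∈ Cfsg.suzukiOvoid F m) (hs : s ∈ Cfsg.suzukiOvoid F m)
    (h1 : p ≠ r) (h2 : r ≠ s) (h3 : p ≠ s) (e1 : g • p = p) (e2 : g • r = r) (e3 : g • s = s) :
    g = 1 := by
  obtain ⟨k, hk, hkp, hkr⟩ := exists_smul_eq_base hS hp hr h1
  have hconj : ∀ v : Projectivization F (Fin 4 → F), g • v = v → (k * g * k⁻¹) • (k • v) = k • v := by
    intro v hv; rw [mul_smul, mul_smul, inv_smul_smul, hv]
  obtain ⟨μ, hμ⟩ := two_point_stabilizer hS (g := k * g * k⁻¹)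
    ((Cfsg.Sz F m).mul_mem ((Cfsg.Sz F m).mul_mem hk hg) ((Cfsg.Sz F m).inv_mem hk))
    (hkp ▸ hconj p e1) (hkr ▸ hconj r e2)
  have hs' := hconj s e3
  rw [hμ] at hs'
  rcases mem_suzukiOvoid_iff.1 ((MulAction.mem_stabilizer_set.1 hk _).2 hs) with h | ⟨x, y, h⟩
  · exact absurd ((smul_left_cancel_iff k).1 (hkp.trans h.symm)) h3
  rw [h, tor_smul_aff hS] at hs'
  obtain ⟨hx, hy⟩ := affPt_injective hs'
  have hμ1 : μ = 1 := by
    apply Units.ext
    rw [Units.val_one]
    by_cases hx0 : x = 0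
    · have hy0 : y ≠ 0 := by
        intro hy0
        subst hx0; subst hy0
        rw [affPt_zero] at h
        exact h2 ((smul_left_cancel_iff k).1 (hkr.trans h.symm))
      exact self_mul_θ_injective hS (by
        simpa using mul_right_cancel₀ hy0 (by rw [hy, one_mul] : (μ : F) * θ m (μ : F) * y = 1 * y))
    · exact mul_right_cancel₀ hx0 (by rw [hx, one_mul])
  rw [hμ1, map_one, mul_inv_eq_one] at hμ
  exact mul_eq_left.1 hμ

theorem three_le_card_ovoid (hS : SzField F m) : 3 ≤ Nat.card (Cfsg.suzukiOvoid F m) := by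
  rw [card_suzukiOvoid]
  have := hS.eight_le
  nlinarith

theorem sz_faithful (hS : SzField F m) :
    FaithfulSMul (Cfsg.Sz F m) (Cfsg.suzukiOvoid F m) := by
  refine ⟨fun {g₁ g₂} h => inv_mul_eq_one.1 (Subtype.ext ?_)⟩
  have hfix : ∀ p : Cfsg.suzukiOvoid F m, (g₁⁻¹ * g₂) • p = p := fun p => by
    rw [mul_smul, ← h p, inv_smul_smul]
  have fix' := fun p => congrArg Subtype.val (hfix p)
  refine sz_fix_three hS _ (g₁⁻¹ * g₂).2 (infinity_mem (m := m)) (zero_mem (m := m))
    (affPt_mem (m := m) 1 0) infinity_ne_zero ?_ (affPt_ne_infinity 1 0).symm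
    (fix' ovoidInf) (fix' ovoidZero) (fix' ⟨_, affPt_mem 1 0⟩)
  rw [← affPt_zero (m := m)]
  intro e
  exact zero_ne_one (affPt_injective e).1

end CfsgLib.Suzuki
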