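import Cfsg.Agent.Suzuki.Stabilizer

/-!
The unipotent radical of the stabiliser of `∞`: a Sylow 2-subgroup of order `q²`, exponent 4,
centre = derived subgroup = `uni 0 _`.
-/

set_option autoImplicit false
set_option linter.unusedSectionVars false
set_option linter.unusedSimpArgs false
set_option linter.unusedTactic false
set_option linter.unreachableTactic false

namespace CfsgLib.Suzuki

open scoped commutatorElement

local notation "SL4" F:max => Matrix.SpecialLinearGroup (Fin 4) F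

variable {F : Type*} [Field F] [Fintype F] {m : ℕ}

theorem uni_inv (hS : SzField F m) (a b : F) :
    (uni m a b)⁻¹ = uni m a (b + θ m a * a) := by
  have := hS.charP
  refine inv_eq_of_mul_eq_one_right ?_
  rw [uni_mul hS, ← uni_zero (m := m), uni_eq_iff]
  constructor
  · exact CharTwo.add_self_eq_zero a
  · linear_combination (b + θ m a * a) * hS.two_eq_zero

/-- `uni` as an element of `Cfsg.Sz`. -/
def uniEl (hS : SzField F m) (a b : F) : Cfsg.Sz F m := ⟨uni m a b, uni_mem hS a b⟩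

theorem uniEl_val (hS : SzField F m) (a b : F) : (uniEl hS a b : SL4 F) = uni m a b := rfl

theorem uniEl_mul (hS : SzField F m) (a b c d : F) :
    uniEl hS a b * uniEl hS c d = uniEl hS (a + c) (b + d + θ m a * c) :=
  Subtype.ext (uni_mul hS a b c d)

theorem uniEl_eq_iff (hS : SzField F m) {a b c d : F} :
    uniEl hS a b = uniEl hS c d ↔ a = c ∧ b = d :=
  Subtype.ext_iff.trans uni_eq_iff

theorem uniEl_zero (hS : SzField F m) : uniEl hS (0 : F) 0 = 1 := Subtype.ext uni_zero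

theorem uniEl_inv (hS : SzField F m) (a b : F) :
    (uniEl hS a b)⁻¹ = uniEl hS a (b + θ m a * a) :=
  Subtype.ext (uni_inv hS a b)

/-- The weyl element as an element of `Cfsg.Sz`. -/
def weylEl (hS : SzField F m) : Cfsg.Sz F m := ⟨weyl, weyl_mem hS⟩

/-- The unipotent subgroup (Sylow 2-subgroup) fixing `∞`. -/
def uniSub (hS : SzField F m) : Subgroup (Cfsg.Sz F m) where
  carrier := {g | ∃ a b, g = uniEl hS a b}
  one_mem' := ⟨0, 0, (uniEl_zero hS).symm⟩
  mul_mem' := by
    rintro _ _ ⟨a, b, rfl⟩ ⟨c, d, rfl⟩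
    exact ⟨_, _, uniEl_mul hS a b c d⟩
  inv_mem' := by
    rintro _ ⟨a, b, rfl⟩
    exact ⟨_, _, uniEl_inv hS a b⟩

theorem uniEl_mem (hS : SzField F m) (a b : F) : uniEl hS a b ∈ uniSub hS := ⟨a, b, rfl⟩

/-- The centre of the unipotent subgroup, as a subgroup of `Cfsg.Sz`. -/
def uniCenter (hS : SzField F m) : Subgroup (Cfsg.Sz F m) where
  carrier := {g | ∃ b, g = uniEl hS 0 b}
  one_mem' := ⟨0, (uniEl_zero hS).symm⟩
  mul_mem' := by
    rintro _ _ ⟨b, rfl⟩ ⟨d, rfl⟩
    exact ⟨b + d, by rw [uniEl_mul hS]; simp⟩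
  inv_mem' := by
    rintro _ ⟨b, rfl⟩
    exact ⟨b, by rw [uniEl_inv hS]; simp⟩

theorem uniCenter_mem (hS : SzField F m) (b : F) : uniEl hS 0 b ∈ uniCenter hS := ⟨b, rfl⟩

theorem uniCenter_le (hS : SzField F m) : uniCenter hS ≤ uniSub hS := by
  rintro _ ⟨b, rfl⟩; exact uniEl_mem hS 0 b

theorem torSz_conj_uniEl (hS : SzField F m) (μ : Fˣ) (a b : F) :
    torSz hS μ * uniEl hS a b * (torSz hS μ)⁻¹ = uniEl hS (μ * a) (μ * θ m (μ : F) * b) := by
  rw [mul_inv_eq_iff_eq_mul]
  exact Subtype.ext (tor_conj_uni hS μ a b)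

theorem pointStab_eq (hS : SzField F m) {g : Cfsg.Sz F m}
    (hg : (g : SL4 F) • Cfsg.suzukiPointInfinity F = Cfsg.suzukiPointInfinity F) :
    ∃ (a b : F) (μ : Fˣ), g = uniEl hS a b * torSz hS μ := by
  obtain ⟨a, b, μ, h⟩ := point_stabilizer hS g.2 hg
  exact ⟨a, b, μ, Subtype.ext h⟩

theorem uniEl_smul_infinity (hS : SzField F m) (a b : F) :
    uniEl hS a b • Cfsg.suzukiPointInfinity F = Cfsg.suzukiPointInfinity F :=
  uni_smul_infinity a b

theorem torSz_smul_infinity (hS : SzField F m) (μ : Fˣ) :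
    torSz hS μ • Cfsg.suzukiPointInfinity F = Cfsg.suzukiPointInfinity F :=
  tor_smul_infinity μ

/-- The Bruhat decomposition of `Cfsg.Sz`. -/
theorem bruhat (hS : SzField F m) (g : Cfsg.Sz F m) :
    (∃ (a b : F) (μ : Fˣ), g = uniEl hS a b * torSz hS μ) ∨
      ∃ (x y a b : F) (μ : Fˣ), g = uniEl hS x y * weylEl hS * (uniEl hS a b * torSz hS μ) := by
  have hmem : (g : SL4 F) • Cfsg.suzukiPointInfinity F ∈ Cfsg.suzukiOvoid F m :=
    (MulAction.mem_stabilizer_set.1 g.2 _).2 infinity_mem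
  rcases mem_suzukiOvoid_iff.1 hmem with h | ⟨x, y, h⟩
  · exact Or.inl (pointStab_eq hS h)
  · obtain ⟨a, b, μ, e⟩ := pointStab_eq hS (g := (uniEl hS x y * weylEl hS)⁻¹ * g) (by
      show ((uni m x y * weyl)⁻¹ * (g : SL4 F)) • _ = _
      rw [mul_smul, h, inv_smul_eq_iff, mul_smul, weyl_smul_infinity, uni_smul_zero hS])
    exact Or.inr ⟨x, y, a, b, μ, by rw [← e, mul_inv_cancel_left]⟩

theorem uniSub_equiv (hS : SzField F m) :
    Function.Bijective (fun p : F × F => (⟨uniEl hS p.1 p.2, uniEl_mem hS _ _⟩ : uniSub hS)) :=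
  ⟨fun p r h => by
      obtain ⟨h1, h2⟩ := (uniEl_eq_iff hS).1 (congrArg Subtype.val h)
      exact Prod.ext h1 h2,
    by rintro ⟨_, a, b, rfl⟩; exact ⟨(a, b), rfl⟩⟩

theorem card_uniSub (hS : SzField F m) : Nat.card (uniSub hS) = Fintype.card F ^ 2 := by
  rw [← Nat.card_eq_of_bijective _ (uniSub_equiv hS), Nat.card_prod, Nat.card_eq_fintype_card,
    pow_two]

theorem card_uniCenter (hS : SzField F m) : Nat.card (uniCenter hS) = Fintype.card F := by
  rw [← Nat.card_eq_of_bijective (fun b : F => (⟨uniEl hS 0 b, uniCenter_mem hS b⟩ : uniCenter hS))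
    ⟨fun b d h => ((uniEl_eq_iff hS).1 (congrArg Subtype.val h)).2,
     by rintro ⟨_, b, rfl⟩; exact ⟨b, rfl⟩⟩, Nat.card_eq_fintype_card]

/-- The commutator `[uniEl a b, uniEl c d]`. -/
theorem uniEl_comm (hS : SzField F m) (a b c d : F) :
    uniEl hS a b * uniEl hS c d * (uniEl hS a b)⁻¹ * (uniEl hS c d)⁻¹ =
      uniEl hS 0 (θ m a * c + θ m c * a) := by
  have := hS.charP
  rw [uniEl_inv hS a b, uniEl_inv hS c d, uniEl_mul, uniEl_mul, uniEl_mul, uniEl_eq_iff]
  simp only [θ_add hS]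
  constructor
  · linear_combination (a + c) * hS.two_eq_zero
  · linear_combination (b + d + θ m a * a + θ m c * c + θ m a * c) * hS.two_eq_zero

theorem uniEl_sq (hS : SzField F m) (a b : F) :
    uniEl hS a b * uniEl hS a b = uniEl hS 0 (θ m a * a) := by
  have := hS.charP
  rw [uniEl_mul, uniEl_eq_iff]
  exact ⟨CharTwo.add_self_eq_zero a, by linear_combination b * hS.two_eq_zero⟩

theorem mem_center_iff (hS : SzField F m) (g : uniSub hS) :
    g ∈ Subgroup.center (uniSub hS) ↔ (g : Cfsg.Sz F m) ∈ uniCenter hS := by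
  have := hS.charP
  obtain ⟨_, a, b, rfl⟩ := g
  rw [Subgroup.mem_center_iff]
  constructor
  · intro h
    have key : ∀ c : F, θ m c * a = θ m a * c := by
      intro c
      have := congrArg Subtype.val (h ⟨uniEl hS c 0, uniEl_mem hS c 0⟩)
      simp only [Subgroup.coe_mul, uniEl_mul, uniEl_eq_iff] at this
      linear_combination this.2
    obtain ⟨c, hc0, hc⟩ := exists_θ_ne hS
    have h1 := key 1
    simp at h1
    have h2 := key c
    rw [← h1] at h2
    have : a = 0 := by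
      by_contra ha
      exact hc (mul_right_cancel₀ ha (by linear_combination h2))
    subst this
    exact ⟨b, rfl⟩
  · rintro ⟨d, hd⟩ ⟨_, c, e, rfl⟩
    simp only at hd
    obtain ⟨rfl, -⟩ := (uniEl_eq_iff hS).1 hd
    apply Subtype.ext
    simp [uniEl_mul, uniEl_eq_iff, add_comm]

/-- Every central element is a commutator. -/
theorem exists_comm_eq (hS : SzField F m) (b : F) :
    ∃ u ∈ uniSub hS, ∃ v ∈ uniSub hS, uniEl hS 0 b = u * v * u⁻¹ * v⁻¹ := by
  have := hS.charP
  obtain ⟨c, hc0, hc⟩ := exists_θ_ne hS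
  set d := c + θ m c with hd
  have hd0 : d ≠ 0 := fun h => hc (CharTwo.add_eq_zero.1 h).symm
  obtain ⟨lam, hlam⟩ := self_mul_θ_surjective hS (b / d)
  simp only at hlam
  refine ⟨_, uniEl_mem hS lam 0, _, uniEl_mem hS (lam * c) 0, ?_⟩
  rw [uniEl_comm, uniEl_eq_iff]
  refine ⟨rfl, ?_⟩
  rw [θ_mul]
  have hb : b = d * (lam * θ m lam) := by rw [hlam]; field_simp
  rw [hb, hd]; ring

theorem center_eq_commutator (hS : SzField F m) :
    Subgroup.center (uniSub hS) = commutator (uniSub hS) := by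
  apply le_antisymm
  · intro g hg
    obtain ⟨b, hb⟩ := (mem_center_iff hS g).1 hg
    obtain ⟨u, hu, v, hv, e⟩ := exists_comm_eq hS b
    have : g = ⁅(⟨u, hu⟩ : uniSub hS), ⟨v, hv⟩⁆ := Subtype.ext (by
      rw [hb, e, commutatorElement_def]; rfl)
    rw [this, commutator_def]
    exact Subgroup.commutator_mem_commutator (Subgroup.mem_top _) (Subgroup.mem_top _)
  · rw [commutator_def, Subgroup.commutator_le]
    rintro ⟨_, a, b, rfl⟩ - ⟨_, c, d, rfl⟩ -
    rw [mem_center_iff, commutatorElement_def]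
    exact ⟨_, uniEl_comm hS a b c d⟩

theorem card_center_uniSub (hS : SzField F m) :
    Nat.card (Subgroup.center (uniSub hS)) = Fintype.card F := by
  rw [← card_uniCenter hS]
  exact Nat.card_congr
    { toFun := fun g => ⟨g.1.1, (mem_center_iff hS g.1).1 g.2⟩
      invFun := fun g => ⟨⟨g.1, uniCenter_le hS g.2⟩, (mem_center_iff hS _).2 g.2⟩
      left_inv := fun _ => rfl
      right_inv := fun _ => rfl }

theorem exponent_uniSub (hS : SzField F m) : Monoid.exponent (uniSub hS) = 4 := by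
  have := hS.charP
  have h4 : Monoid.exponent (uniSub hS) ∣ 4 := by
    refine Monoid.exponent_dvd_of_forall_pow_eq_one fun g => ?_
    obtain ⟨_, a, b, rfl⟩ := g
    apply Subtype.ext
    simp only [Subgroup.coe_pow, Subgroup.coe_one]
    rw [show uniEl hS a b ^ 4 = (uniEl hS a b * uniEl hS a b) * (uniEl hS a b * uniEl hS a b) by simp [pow_succ, mul_assoc],
      uniEl_sq, uniEl_sq, ← uniEl_zero hS, uniEl_eq_iff]
    simp
  have h2 : ¬ Monoid.exponent (uniSub hS) ∣ 2 := fun h => by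
    have := (Monoid.exponent_dvd_iff_forall_pow_eq_one).1 h ⟨uniEl hS 1 0, uniEl_mem hS 1 0⟩
    have := congrArg Subtype.val this
    simp [pow_two, uniEl_sq, ← uniEl_zero hS, uniEl_eq_iff] at this
  obtain ⟨k, hk, e⟩ := (Nat.dvd_prime_pow Nat.prime_two).1
    (show Monoid.exponent (uniSub hS) ∣ 2 ^ 2 from h4)
  interval_cases k <;> simp_all

theorem isPGroup_uniSub (hS : SzField F m) : IsPGroup 2 (uniSub hS) :=
  IsPGroup.of_card (n := 2 * (2 * m + 1)) (by rw [card_uniSub, hS.card_eq, ← pow_mul, mul_comm])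

theorem index_uniSub (hS : SzField F m) :
    (uniSub hS).index = (Fintype.card F ^ 2 + 1) * (Fintype.card F - 1) := by
  have h := Subgroup.card_mul_index (uniSub hS)
  rw [card_uniSub, card_sz hS, mul_assoc] at h
  exact Nat.eq_of_mul_eq_mul_left (pow_pos Fintype.card_pos 2) h

theorem odd_index_uniSub (hS : SzField F m) : ¬ 2 ∣ (uniSub hS).index := by
  rw [index_uniSub, hS.card_eq, ← even_iff_two_dvd, Nat.not_even_iff_odd]
  have he : Even (2 ^ (2 * m + 1)) := Nat.even_pow.2 ⟨even_two, by omega⟩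
  exact ((he.pow_of_ne_zero two_ne_zero).add_one).mul (Nat.Even.sub_odd Nat.one_le_two_pow he odd_one)

/-- The unipotent subgroup as a Sylow 2-subgroup. -/
def uniSylow (hS : SzField F m) : Sylow 2 (Cfsg.Sz F m) :=
  haveI : Fact (Nat.Prime 2) := ⟨Nat.prime_two⟩
  (isPGroup_uniSub hS).toSylow (odd_index_uniSub hS)

theorem uniSylow_coe (hS : SzField F m) :
    ((uniSylow hS : Sylow 2 (Cfsg.Sz F m)) : Subgroup (Cfsg.Sz F m)) = uniSub hS := rfl

end CfsgLib.Suzuki
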