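import Cfsg.Agent.Suzuki.LieModel

/-!
The Sylow 2-normaliser of a Suzuki group and the action on its cosets, transported to any isomorphic group.
-/

set_option autoImplicit false
set_option linter.unusedSectionVars false
set_option linter.style.haveILetI false

namespace CfsgLib.Suzuki

variable {F : Type*} [Field F] [Fintype F] {m : ℕ}

theorem normalizer_uniSub (hS : SzField F m) :
    Subgroup.normalizer (uniSub hS : Set (Cfsg.Sz F m)) =
      MulAction.stabilizer (Cfsg.Sz F m) (Cfsg.suzukiPointInfinity F) := by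
  ext g
  constructor
  · intro hg
    rw [Subgroup.mem_normalizer_iff] at hg
    have hmem : (g : Matrix.SpecialLinearGroup (Fin 4) F) • Cfsg.suzukiPointInfinity F ∈
        Cfsg.suzukiOvoid F m := (MulAction.mem_stabilizer_set.1 g.2 _).2 infinity_mem
    rcases mem_suzukiOvoid_iff.1 hmem with h | ⟨x, y, h⟩
    · exact h
    exfalso
    have h1 : g * uniEl hS 0 1 * g⁻¹ ∈ uniSub hS := (hg _).1 (uniEl_mem hS 0 1)
    obtain ⟨a, b, e⟩ := h1
    have hfix : (uniEl hS a b : Matrix.SpecialLinearGroup (Fin 4) F) • affPt m x y = affPt m x y := by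
      rw [← e, ← h]
      show ((g : Matrix.SpecialLinearGroup (Fin 4) F) * uni m 0 1 * (g : Matrix.SpecialLinearGroup (Fin 4) F)⁻¹) •
        ((g : Matrix.SpecialLinearGroup (Fin 4) F) • Cfsg.suzukiPointInfinity F) =
        (g : Matrix.SpecialLinearGroup (Fin 4) F) • Cfsg.suzukiPointInfinity F
      rw [mul_smul, mul_smul, inv_smul_smul, uni_smul_infinity]
    rw [uniEl_val, uni_smul_aff hS] at hfix
    obtain ⟨ha, hb⟩ := affPt_injective hfix
    have ha' : a = 0 := by linear_combination ha
    subst ha'
    simp at hb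
    subst hb
    rw [uniEl_zero, mul_inv_eq_one, mul_eq_left, ← uniEl_zero hS, uniEl_eq_iff] at e
    exact one_ne_zero e.2
  · intro hg
    obtain ⟨a, b, μ, rfl⟩ := pointStab_eq hS hg
    refine mul_mem (Subgroup.le_normalizer (uniEl_mem hS a b)) ?_
    rw [Subgroup.mem_normalizer_iff]
    intro h
    constructor
    · rintro ⟨c, d, rfl⟩
      exact ⟨_, _, torSz_conj_uniEl hS μ c d⟩
    · rintro ⟨c, d, e⟩
      have : h = torSz hS μ⁻¹ * uniEl hS c d * (torSz hS μ⁻¹)⁻¹ := by
        rw [← e, map_inv]; group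
      rw [this, torSz_conj_uniEl]
      exact uniEl_mem hS _ _

/-- For any group isomorphic to a Suzuki group: the Sylow 2-normaliser, its index, and the doubly
transitive action on its cosets with the Sylow subgroup regular off the base point. -/
theorem sylow_normalizer_action (hS : SzField F m) {G : Type*} [Group G]
    (e : Cfsg.Sz F m ≃* G) :
    ∃ S : Sylow 2 G,
      Nat.card (Subgroup.normalizer ((S : Subgroup G) : Set G)) = Fintype.card F ^ 2 * (Fintype.card F - 1) ∧
      (Subgroup.normalizer ((S : Subgroup G) : Set G)).index = Fintype.card F ^ 2 + 1 ∧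
      MulAction.IsMultiplyPretransitive G (G ⧸ Subgroup.normalizer ((S : Subgroup G) : Set G)) 2 ∧
      ∀ x y : G ⧸ Subgroup.normalizer ((S : Subgroup G) : Set G),
        x ≠ QuotientGroup.mk 1 → y ≠ QuotientGroup.mk 1 → ∃! s : ↥(S : Subgroup G), (s : G) • x = y := by
  haveI : Fact (Nat.Prime 2) := ⟨Nat.prime_two⟩
  letI : MulAction G (Cfsg.suzukiOvoid F m) :=
    MulAction.compHom (Cfsg.suzukiOvoid F m) (e.symm : G →* Cfsg.Sz F m)
  have hsmul : ∀ (g : G) (p : Cfsg.suzukiOvoid F m), g • p = e.symm g • p := fun _ _ => rfl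
  let S0 : Subgroup G := (uniSub hS).comap (e.symm : G →* Cfsg.Sz F m)
  have hS0card : Nat.card S0 = Nat.card (uniSub hS) :=
    Nat.card_congr
      { toFun := fun g => ⟨e.symm g.1, g.2⟩
        invFun := fun u => ⟨e u.1, by
          show e.symm (e u.1) ∈ uniSub hS
          rw [e.symm_apply_apply]; exact u.2⟩
        left_inv := fun g => Subtype.ext (e.apply_symm_apply g.1)
        right_inv := fun u => Subtype.ext (e.symm_apply_apply u.1) }
  have hS0 : IsPGroup 2 S0 := IsPGroup.of_card (n := 2 * (2 * m + 1)) (by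
    rw [hS0card, card_uniSub, hS.card_eq, ← pow_mul, mul_comm])
  have hidx : S0.index = (uniSub hS).index :=
    Subgroup.index_comap_of_surjective _ e.symm.surjective
  let S : Sylow 2 G := hS0.toSylow (by rw [hidx]; exact odd_index_uniSub hS)
  set H := Subgroup.normalizer ((S : Subgroup G) : Set G) with hHdef
  have hH : H = MulAction.stabilizer G (ovoidInf (F := F) (m := m)) := by
    rw [hHdef, show ((S : Subgroup G) : Set G) = ((S0 : Subgroup G) : Set G) from rfl,
      ← Subgroup.comap_normalizer_eq_of_surjective (uniSub hS) e.symm.surjective, normalizer_uniSub,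
      show MulAction.stabilizer (Cfsg.Sz F m) (Cfsg.suzukiPointInfinity F) =
        MulAction.stabilizer (Cfsg.Sz F m) (ovoidInf (F := F) (m := m)) from (stabilizer_ovoid (ovoidInf (F := F) (m := m))).symm]
    rfl
  haveI : MulAction.IsPretransitive G (Cfsg.suzukiOvoid F m) := ⟨fun a c => by
    obtain ⟨g, hg⟩ := (sz_pretransitive hS).exists_smul_eq a c
    exact ⟨e g, by rw [hsmul, e.symm_apply_apply]; exact hg⟩⟩
  refine ⟨S, ?_, ?_, ?_, ?_⟩
  · show Nat.card H = _
    rw [hH, ← card_pointStab hS]
    exact Nat.card_congr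
      { toFun := fun g => ⟨e.symm g.1, congrArg Subtype.val ((hsmul _ _).symm.trans (MulAction.mem_stabilizer_iff.1 g.2))⟩
        invFun := fun u => ⟨e u.1, by
          rw [MulAction.mem_stabilizer_iff, hsmul, e.symm_apply_apply]; exact Subtype.ext u.2⟩
        left_inv := fun g => Subtype.ext (e.apply_symm_apply g.1)
        right_inv := fun u => Subtype.ext (e.symm_apply_apply u.1) }
  · show H.index = _
    rw [hH, MulAction.index_stabilizer_of_transitive, card_suzukiOvoid]
  · show MulAction.IsMultiplyPretransitive G (G ⧸ H) 2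
    rw [MulAction.is_two_pretransitive_iff]
    intro a b c d hab hcd
    obtain ⟨a, rfl⟩ := QuotientGroup.mk_surjective a
    obtain ⟨b, rfl⟩ := QuotientGroup.mk_surjective b
    obtain ⟨c, rfl⟩ := QuotientGroup.mk_surjective c
    obtain ⟨d, rfl⟩ := QuotientGroup.mk_surjective d
    have key : ∀ u v : G, (QuotientGroup.mk u : G ⧸ H) = QuotientGroup.mk v ↔
        u • ovoidInf (F := F) (m := m) = v • ovoidInf := by
      intro u v
      rw [QuotientGroup.eq, hH, MulAction.mem_stabilizer_iff, mul_smul, inv_smul_eq_iff]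
      exact eq_comm
    have h2t : ∀ a b c d : Cfsg.suzukiOvoid F m, a ≠ b → c ≠ d →
        ∃ g : Cfsg.Sz F m, g • a = c ∧ g • b = d :=
      fun _ _ _ _ h h' => MulAction.is_two_pretransitive_iff.1 (sz_two_pretransitive hS) h h'
    obtain ⟨g, h1, h2⟩ := h2t _ _ _ _ (fun h => hab ((key a b).2 h)) (fun h => hcd ((key c d).2 h))
    refine ⟨e g, ?_, ?_⟩
    · show (QuotientGroup.mk (e g * a) : G ⧸ H) = QuotientGroup.mk c
      rw [key, mul_smul, hsmul (e g), e.symm_apply_apply]; exact h1
    · show (QuotientGroup.mk (e g * b) : G ⧸ H) = QuotientGroup.mk d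
      rw [key, mul_smul, hsmul (e g), e.symm_apply_apply]; exact h2
  · intro x y hx hy
    obtain ⟨u, rfl⟩ := QuotientGroup.mk_surjective x
    obtain ⟨v, rfl⟩ := QuotientGroup.mk_surjective y
    have key : ∀ u v : G, (QuotientGroup.mk u : G ⧸ H) = QuotientGroup.mk v ↔
        u • ovoidInf (F := F) (m := m) = v • ovoidInf := by
      intro u v
      rw [QuotientGroup.eq, hH, MulAction.mem_stabilizer_iff, mul_smul, inv_smul_eq_iff]
      exact eq_comm
    have aff : ∀ w : G, (QuotientGroup.mk w : G ⧸ H) ≠ QuotientGroup.mk 1 →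
        ∃ x y : F, ((w • ovoidInf (F := F) (m := m) : Cfsg.suzukiOvoid F m) :
          Projectivization F (Fin 4 → F)) = affPt m x y := by
      intro w hw
      rcases mem_suzukiOvoid_iff.1 (w • ovoidInf (F := F) (m := m)).2 with h | h
      · exact absurd ((key w 1).2 (by rw [one_smul]; exact Subtype.ext h)) hw
      · exact h
    obtain ⟨p, q, hpq⟩ := aff u hx
    obtain ⟨r, s, hrs⟩ := aff v hy
    have act : ∀ a b : F, ((e (uniEl hS a b) • (u • ovoidInf (F := F) (m := m)) : Cfsg.suzukiOvoid F m) :
        Projectivization F (Fin 4 → F)) = affPt m (p + a) (q + b + θ m a * p) := by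
      intro a b
      rw [hsmul, e.symm_apply_apply]
      show (uni m a b) • ((u • ovoidInf (F := F) (m := m) : Cfsg.suzukiOvoid F m) :
        Projectivization F (Fin 4 → F)) = _
      rw [hpq, uni_smul_aff hS]
    refine ⟨⟨e (uniEl hS (r - p) (s - q - θ m (r - p) * p)), ?_⟩, ?_, ?_⟩
    · show e.symm (e (uniEl hS _ _)) ∈ uniSub hS
      rw [e.symm_apply_apply]; exact uniEl_mem hS _ _
    · show (QuotientGroup.mk (e (uniEl hS _ _) * u) : G ⧸ H) = QuotientGroup.mk v
      rw [key, mul_smul]
      refine Subtype.ext ?_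
      rw [act, hrs]
      congr 1 <;> ring
    · rintro ⟨s', hs'⟩ h'
      obtain ⟨a, b, hab⟩ : ∃ a b, e.symm s' = uniEl hS a b := hs'
      have es : s' = e (uniEl hS a b) := by rw [← hab, e.apply_symm_apply]
      subst es
      have h'' : (QuotientGroup.mk (e (uniEl hS a b) * u) : G ⧸ H) = QuotientGroup.mk v := h'
      rw [key, mul_smul] at h''
      have h3 := congrArg Subtype.val h''
      rw [act, hrs] at h3
      obtain ⟨e1, e2⟩ := affPt_injective h3
      refine Subtype.ext (congrArg e ((uniEl_eq_iff hS).2 ⟨by linear_combination e1, ?_⟩))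
      have ea : a = r - p := by linear_combination e1
      rw [← ea]; linear_combination e2

end CfsgLib.Suzuki
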