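import Cfsg.Agent.Suzuki.Centralizers

/-!
The two classes of anisotropic tori of `Cfsg.Sz F m`: cyclic TI subgroups of orders `q + r + 1` and
`q - r + 1` (`r = 2 ^ (m+1)`), each of index 4 in its normaliser. The orders come out of counting the
derangements of the doubly transitive action.
-/

set_option autoImplicit false
set_option linter.unusedSectionVars false
set_option linter.unusedVariables false
set_option linter.style.haveILetI false

namespace CfsgLib.Suzuki

local notation "SL4" F:max => Matrix.SpecialLinearGroup (Fin 4) F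

variable {F : Type*} [Field F] [Fintype F] {m : ℕ}

/-- The torus attached to an anisotropic element `z`. -/
abbrev cT (z : Cfsg.Sz F m) : Subgroup (Cfsg.Sz F m) :=
  Subgroup.centralizer ({z} : Set (Cfsg.Sz F m))

/-- `z` has prime order dividing `q² + 1`. -/
def IsAnisElt (z : Cfsg.Sz F m) : Prop := Anis F (orderOf z)

theorem IsAnisElt.cyclic (hS : SzField F m) {z : Cfsg.Sz F m} (hz : IsAnisElt z) :
    IsCyclic (cT z) := isCyclic_centralizer_of_anis hS hz rfl

theorem IsAnisElt.ne_one {z : Cfsg.Sz F m} (hz : IsAnisElt z) : z ≠ 1 := fun h =>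
  hz.prime.ne_one (by rw [h, orderOf_one])

theorem mem_cT {z x : Cfsg.Sz F m} : x ∈ cT z ↔ x * z = z * x :=
  Subgroup.mem_centralizer_singleton_iff

theorem IsAnisElt.not_fixesPoint (hS : SzField F m) {z u : Cfsg.Sz F m} (hz : IsAnisElt z)
    (hu : u ∈ cT z) (hu1 : u ≠ 1) : ¬ FixesPoint u := fun h =>
  not_fixesPoint_of_anis hS hz rfl (h.of_commute hS hu1 (mem_cT.1 hu).symm)

theorem IsAnisElt.comm (hS : SzField F m) {z u v : Cfsg.Sz F m} (hz : IsAnisElt z)
    (hu : u ∈ cT z) (hv : v ∈ cT z) : u * v = v * u := by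
  haveI := hz.cyclic hS
  letI := IsCyclic.commGroup (α := cT z)
  exact congrArg Subtype.val (mul_comm (⟨u, hu⟩ : cT z) ⟨v, hv⟩)

/-- The tori are TI: the centraliser of any non-trivial element of a torus is the torus. -/
theorem IsAnisElt.cT_eq (hS : SzField F m) {z u : Cfsg.Sz F m} (hz : IsAnisElt z)
    (hu : u ∈ cT z) (hu1 : u ≠ 1) : cT u = cT z := by
  obtain ⟨p, w, hp, hw, hle⟩ :=
    exists_anis_of_not_fixesPoint hS hu1 (hz.not_fixesPoint hS hu hu1)
  have hwA : IsAnisElt w := by rw [IsAnisElt, hw]; exact hp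
  have hzu : z ∈ cT u := mem_cT.2 (mem_cT.1 hu).symm
  ext x
  constructor
  · intro hx
    exact mem_cT.2 (hwA.comm hS (hle hx) (hle hzu))
  · intro hx
    exact mem_cT.2 (hz.comm hS hx hu)

theorem exists_anis_elt {r : ℕ} (hr : r.Prime) (hd : r ∣ Fintype.card F ^ 2 + 1) (hS : SzField F m) :
    ∃ z : Cfsg.Sz F m, IsAnisElt z ∧ orderOf z = r := by
  haveI := Fact.mk hr
  obtain ⟨z, hz⟩ := exists_prime_orderOf_dvd_card' (G := Cfsg.Sz F m) r
    (by rw [card_sz hS]; exact Dvd.dvd.mul_right (Dvd.dvd.mul_left hd _) _)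
  exact ⟨z, by rw [IsAnisElt, hz]; exact ⟨hr, hd⟩, hz⟩

theorem IsAnisElt.prime_dvd (hS : SzField F m) {z : Cfsg.Sz F m} (hz : IsAnisElt z) {r : ℕ}
    (hr : r.Prime) (hd : r ∣ Nat.card (cT z)) : r ∣ Fintype.card F ^ 2 + 1 := by
  haveI := Fact.mk hr
  obtain ⟨⟨w, hwm⟩, hw⟩ := exists_prime_orderOf_dvd_card' (G := cT z) r hd
  rw [Subgroup.orderOf_mk] at hw
  by_contra hn
  exact hz.not_fixesPoint hS hwm (fun h => hr.ne_one (by rw [← hw, h, orderOf_one]))
    (fixesPoint_of_prime_order hr hn hw)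

theorem IsAnisElt.card_dvd (hS : SzField F m) {z : Cfsg.Sz F m} (hz : IsAnisElt z) :
    Nat.card (cT z) ∣ Fintype.card F ^ 2 + 1 := by
  have h1 : Nat.card (cT z) ∣ Nat.card (Cfsg.Sz F m) := Subgroup.card_subgroup_dvd_card _
  rw [card_sz hS, mul_right_comm] at h1
  refine (Nat.Coprime.dvd_of_dvd_mul_left ?_ h1)
  refine Nat.coprime_of_dvd fun r hr hd hd' => ?_
  exact (Anis.not_dvd_card hS ⟨hr, hz.prime_dvd hS hr hd⟩) hd'

theorem orderOf_dvd_card_cT (z : Cfsg.Sz F m) : orderOf z ∣ Nat.card (cT z) :=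
  Subgroup.orderOf_dvd_natCard _ (mem_cT.2 rfl)

theorem three_not_dvd (hS : SzField F m) : ¬ 3 ∣ Nat.card (Cfsg.Sz F m) := by
  rw [card_sz hS, hS.card_eq]
  have h : 2 ^ (2 * m + 1) % 3 = 2 := by
    rw [pow_succ, pow_mul, Nat.mul_mod, Nat.pow_mod]
    norm_num
  intro h3
  have hq : 1 ≤ 2 ^ (2 * m + 1) := Nat.one_le_two_pow
  rcases (Nat.Prime.dvd_mul Nat.prime_three).1 h3 with h3 | h3
  · rcases (Nat.Prime.dvd_mul Nat.prime_three).1 h3 with h3 | h3
    · have := Nat.prime_three.dvd_of_dvd_pow h3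
      omega
    · have : (2 ^ (2 * m + 1)) ^ 2 % 3 = 1 := by rw [Nat.pow_mod, h]
      omega
  · omega

theorem IsAnisElt.five_le (hS : SzField F m) {z : Cfsg.Sz F m} (hz : IsAnisElt z) :
    5 ≤ Nat.card (cT z) := by
  have h1 := orderOf_dvd_card_cT z
  have h2 := hz.ne_two hS
  have h3 : orderOf z ≠ 3 := fun h => three_not_dvd hS (h ▸ orderOf_dvd_natCard z)
  have h4 : orderOf z ≠ 4 := fun h => by have := hz.prime; rw [h] at this; norm_num at this
  have := hz.prime.two_le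
  have := Nat.le_of_dvd Nat.card_pos h1
  omega

theorem mem_cT_conj {z x k : Cfsg.Sz F m} (hx : x ∈ cT z) :
    k * x * k⁻¹ ∈ cT (k * z * k⁻¹) := by
  rw [mem_cT] at hx ⊢
  calc k * x * k⁻¹ * (k * z * k⁻¹) = k * (x * z) * k⁻¹ := by group
    _ = k * (z * x) * k⁻¹ := by rw [hx]
    _ = _ := by group

theorem card_cT_conj (z k : Cfsg.Sz F m) : Nat.card (cT (k * z * k⁻¹)) = Nat.card (cT z) :=
  Nat.card_congr
    { toFun := fun x => ⟨k⁻¹ * x * k, by
        have := mem_cT_conj (k := k⁻¹) x.2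
        simpa [mul_assoc] using this⟩
      invFun := fun x => ⟨k * x * k⁻¹, mem_cT_conj x.2⟩
      left_inv := fun x => Subtype.ext (by group)
      right_inv := fun x => Subtype.ext (by group) }

/-- Two tori whose orders share a prime are conjugate. -/
theorem IsAnisElt.exists_conj (hS : SzField F m) {z z' : Cfsg.Sz F m} (hz : IsAnisElt z)
    (hz' : IsAnisElt z') {r : ℕ} (hr : r.Prime) (h : r ∣ Nat.card (cT z))
    (h' : r ∣ Nat.card (cT z')) :
    ∃ k : Cfsg.Sz F m, cT (k * z * k⁻¹) = cT z' := by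
  haveI := Fact.mk hr
  have hr2 : r ≠ 2 := Anis.ne_two hS ⟨hr, hz.prime_dvd hS hr h⟩
  obtain ⟨⟨w, hwm⟩, hw⟩ := exists_prime_orderOf_dvd_card' (G := cT z) r h
  obtain ⟨⟨w', hwm'⟩, hw'⟩ := exists_prime_orderOf_dvd_card' (G := cT z') r h'
  rw [Subgroup.orderOf_mk] at hw hw'
  have hw1 : w ≠ 1 := fun e => hr.ne_one (by rw [← hw, e, orderOf_one])
  have hw1' : w' ≠ 1 := fun e => hr.ne_one (by rw [← hw', e, orderOf_one])
  have hP : ∀ x : Cfsg.Sz F m, orderOf x = r → IsPGroup r (Subgroup.zpowers x) := fun x hx =>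
    IsPGroup.of_card (n := 1) (by rw [Nat.card_zpowers, hx, pow_one])
  obtain ⟨P, hP1⟩ := (hP w hw).exists_le_sylow
  obtain ⟨P', hP2⟩ := (hP w' hw').exists_le_sylow
  obtain ⟨k, hk⟩ := MulAction.exists_smul_eq (Cfsg.Sz F m) P P'
  have hmem : k * w * k⁻¹ ∈ (P' : Subgroup (Cfsg.Sz F m)) := by
    rw [← hk]
    exact ⟨w, hP1 (Subgroup.mem_zpowers w), rfl⟩
  haveI : IsCyclic P' := isCyclic_sylow hS hr2 P'
  set a : P' := ⟨k * w * k⁻¹, hmem⟩
  set b : P' := ⟨w', hP2 (Subgroup.mem_zpowers w')⟩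
  have hab : Subgroup.zpowers a = Subgroup.zpowers b := by
    letI := IsCyclic.commGroup (α := P')
    have hle : ∀ x : P', orderOf x = r → Subgroup.zpowers x = (powMonoidHom r : P' →* P').ker := by
      intro x hx
      refine Subgroup.eq_of_le_of_card_ge ?_ ?_
      · rw [Subgroup.zpowers_le, MonoidHom.mem_ker, powMonoidHom_apply]
        exact orderOf_dvd_iff_pow_eq_one.1 hx.dvd
      · rw [Nat.card_zpowers, hx, IsCyclic.card_powMonoidHom_ker]
        exact Nat.le_of_dvd hr.pos (Nat.gcd_dvd_right _ _)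
    rw [hle a, hle b]
    · rw [Subgroup.orderOf_mk, hw']
    · rw [Subgroup.orderOf_mk, ← MulAut.conj_apply, MulEquiv.orderOf_eq, hw]
  have hin : a ∈ Subgroup.zpowers b := hab ▸ Subgroup.mem_zpowers a
  obtain ⟨i, hi⟩ := Subgroup.mem_zpowers_iff.1 hin
  have hmem' : k * w * k⁻¹ ∈ cT z' := by
    have : k * w * k⁻¹ = w' ^ i := (congrArg Subtype.val hi).symm
    rw [this]; exact zpow_mem hwm' i
  have hne : k * w * k⁻¹ ≠ 1 := by
    intro e; rw [mul_inv_eq_one, mul_eq_left] at e; exact hw1 e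
  have hkz : IsAnisElt (k * z * k⁻¹) := by
    rw [IsAnisElt, ← MulAut.conj_apply, MulEquiv.orderOf_eq]; exact hz
  exact ⟨k, by rw [← hz'.cT_eq hS hmem' hne, hkz.cT_eq hS (mem_cT_conj hwm) hne]⟩

theorem IsAnisElt.card_eq_of_dvd (hS : SzField F m) {z z' : Cfsg.Sz F m} (hz : IsAnisElt z)
    (hz' : IsAnisElt z') {r : ℕ} (hr : r.Prime) (h : r ∣ Nat.card (cT z))
    (h' : r ∣ Nat.card (cT z')) : Nat.card (cT z) = Nat.card (cT z') := by
  obtain ⟨k, hk⟩ := hz.exists_conj hS hz' hr h h'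
  rw [← hk, card_cT_conj]

/-- A torus contains a full Sylow subgroup for each prime dividing its order. -/
theorem IsAnisElt.ordProj_dvd (hS : SzField F m) {z : Cfsg.Sz F m} (hz : IsAnisElt z) {r : ℕ}
    (hr : r.Prime) (h : r ∣ Nat.card (cT z)) :
    r ^ (Nat.card (Cfsg.Sz F m)).factorization r ∣ Nat.card (cT z) := by
  haveI := Fact.mk hr
  have hr2 : r ≠ 2 := Anis.ne_two hS ⟨hr, hz.prime_dvd hS hr h⟩
  obtain ⟨⟨w, hwm⟩, hw⟩ := exists_prime_orderOf_dvd_card' (G := cT z) r h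
  rw [Subgroup.orderOf_mk] at hw
  have hw1 : w ≠ 1 := fun e => hr.ne_one (by rw [← hw, e, orderOf_one])
  obtain ⟨P, hP⟩ := (IsPGroup.of_card (n := 1) (by rw [Nat.card_zpowers, hw, pow_one]) :
    IsPGroup r (Subgroup.zpowers w)).exists_le_sylow
  haveI : IsCyclic P := isCyclic_sylow hS hr2 P
  letI := IsCyclic.commGroup (α := P)
  rw [← P.card_eq_multiplicity]
  refine Subgroup.card_dvd_of_le fun x hx => ?_
  rw [← hz.cT_eq hS hwm hw1, mem_cT]
  exact congrArg Subtype.val (mul_comm (⟨x, hx⟩ : P) ⟨w, hP (Subgroup.mem_zpowers w)⟩)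

/-- Conjugation of matrices, as an algebra endomorphism. -/
def conjMatHom (A B : Matrix (Fin 4) (Fin 4) F) (hAB : A * B = 1) (hBA : B * A = 1) :
    Matrix (Fin 4) (Fin 4) F →ₐ[F] Matrix (Fin 4) (Fin 4) F where
  toFun X := A * X * B
  map_one' := by rw [Matrix.mul_one, hAB]
  map_mul' X Y := by
    calc A * (X * Y) * B = A * X * (B * A) * (Y * B) := by
          rw [hBA, Matrix.mul_one]; simp only [Matrix.mul_assoc]
      _ = _ := by simp only [Matrix.mul_assoc]
  map_zero' := by simp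
  map_add' X Y := by rw [Matrix.mul_add, Matrix.add_mul]
  commutes' c := by
    rw [← Algebra.commutes, Matrix.mul_assoc, hAB, Matrix.mul_one]

/-- The number `[N(T) : T]` is 1, 2 or 4. -/
theorem IsAnisElt.normalizer_card (hS : SzField F m) {z : Cfsg.Sz F m} (hz : IsAnisElt z) :
    ∃ n : ℕ, (n = 1 ∨ n = 2 ∨ n = 4) ∧
      Nat.card (Subgroup.normalizer (cT z : Set (Cfsg.Sz F m))) = n * Nat.card (cT z) := by
  classical
  set N := Subgroup.normalizer (cT z : Set (Cfsg.Sz F m))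
  set C := (cT z).subgroupOf N
  set n := Nat.card (N ⧸ C)
  have hcard : Nat.card N = n * Nat.card (cT z) := by
    rw [Subgroup.card_eq_card_quotient_mul_card_subgroup C,
      Nat.card_congr (Subgroup.subgroupOfEquivOfLe (Subgroup.le_normalizer (H := cT z))).toEquiv]
  refine ⟨n, ?_, hcard⟩
  obtain ⟨hirr, hdeg⟩ := anis_matrix hS hz (g := z) rfl
  set M : Matrix (Fin 4) (Fin 4) F := ((z : SL4 F) : Matrix (Fin 4) (Fin 4) F)
  haveI : Fact (Irreducible (minpoly F M)) := ⟨hirr⟩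
  have hinj : Function.Injective (minpolyEval M) := (minpolyEval M).toRingHom.injective
  have hex : ∀ a : N, ∃ k : AdjoinRoot (minpoly F M),
      k ∈ (minpoly F M).rootSet (AdjoinRoot (minpoly F M)) ∧
        minpolyEval M k = ((((a : Cfsg.Sz F m) * z * (a : Cfsg.Sz F m)⁻¹ : Cfsg.Sz F m) : SL4 F) :
          Matrix (Fin 4) (Fin 4) F) := by
    intro a
    have hmem : (a : Cfsg.Sz F m) * z * (a : Cfsg.Sz F m)⁻¹ ∈ cT z :=
      (Subgroup.mem_normalizer_iff.1 a.2 z).1 (mem_cT.2 rfl)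
    obtain ⟨k, hk⟩ := commutant_mem_range M _ hirr hdeg
      (congrArg (fun x : Cfsg.Sz F m => ((x : SL4 F) : Matrix (Fin 4) (Fin 4) F)) (mem_cT.1 hmem))
    refine ⟨k, ?_, hk⟩
    rw [Polynomial.mem_rootSet]
    refine ⟨hirr.ne_zero, hinj ?_⟩
    rw [map_zero, ← Polynomial.aeval_algHom_apply, hk]
    let f := conjMatHom ((((a : Cfsg.Sz F m)) : SL4 F) : Matrix (Fin 4) (Fin 4) F)
      (((((a : Cfsg.Sz F m))⁻¹ : Cfsg.Sz F m) : SL4 F) : Matrix (Fin 4) (Fin 4) F)
      (congrArg (fun x : Cfsg.Sz F m => ((x : SL4 F) : Matrix (Fin 4) (Fin 4) F)) (mul_inv_cancel (a : Cfsg.Sz F m)))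
      (congrArg (fun x : Cfsg.Sz F m => ((x : SL4 F) : Matrix (Fin 4) (Fin 4) F)) (inv_mul_cancel (a : Cfsg.Sz F m)))
    show Polynomial.aeval (f M) (minpoly F M) = 0
    rw [Polynomial.aeval_algHom_apply, minpoly.aeval, map_zero]
  choose φ hφr hφ using hex
  let ψ : N ⧸ C → (minpoly F M).rootSet (AdjoinRoot (minpoly F M)) := fun x => ⟨φ x.out, hφr _⟩
  have hψ : Function.Injective ψ := by
    intro x y h
    have h2 : minpolyEval M (φ x.out) = minpolyEval M (φ y.out) :=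
      congrArg (minpolyEval M) (congrArg Subtype.val h)
    rw [hφ, hφ] at h2
    have h3 := Subtype.ext (Subtype.ext h2) (a1 := ((x.out : N) : Cfsg.Sz F m) * z * ((x.out : N) : Cfsg.Sz F m)⁻¹)
      (a2 := ((y.out : N) : Cfsg.Sz F m) * z * ((y.out : N) : Cfsg.Sz F m)⁻¹)
    rw [← QuotientGroup.out_eq' x, ← QuotientGroup.out_eq' y, QuotientGroup.eq, Subgroup.mem_subgroupOf,
      mem_cT]
    push_cast
    calc ((x.out : N) : Cfsg.Sz F m)⁻¹ * (y.out : N) * z
        = ((x.out : N) : Cfsg.Sz F m)⁻¹ * (((y.out : N) : Cfsg.Sz F m) * z * ((y.out : N) : Cfsg.Sz F m)⁻¹) * (y.out : N) := by group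
      _ = ((x.out : N) : Cfsg.Sz F m)⁻¹ * (((x.out : N) : Cfsg.Sz F m) * z * ((x.out : N) : Cfsg.Sz F m)⁻¹) * (y.out : N) := by rw [h3]
      _ = _ := by group
  have hle : n ≤ 4 := by
    refine le_trans (Nat.card_le_card_of_injective ψ hψ) ?_
    rw [Nat.card_coe_set_eq]
    exact le_trans (Polynomial.ncard_rootSet_le _ _) hdeg.le
  have h3 : n ≠ 3 := by
    intro h
    refine three_not_dvd hS (dvd_trans ?_ (Subgroup.card_subgroup_dvd_card N))
    rw [hcard, h]
    exact dvd_mul_right 3 _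
  have h0 : n ≠ 0 := Nat.card_pos.ne'
  omega

/-- The non-trivial elements conjugate into the torus of `z`. -/
def classSet (z : Cfsg.Sz F m) : Set (Cfsg.Sz F m) :=
  {g | g ≠ 1 ∧ ∃ k : Cfsg.Sz F m, k * g * k⁻¹ ∈ cT z}

theorem card_classSet (hS : SzField F m) {z : Cfsg.Sz F m} (hz : IsAnisElt z) :
    Nat.card (classSet z) * Nat.card (Subgroup.normalizer (cT z : Set (Cfsg.Sz F m))) =
      Nat.card (Cfsg.Sz F m) * (Nat.card (cT z) - 1) := by
  classical
  set N := Subgroup.normalizer (cT z : Set (Cfsg.Sz F m))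
  let U := {u : cT z // u ≠ 1}
  let f : (Cfsg.Sz F m ⧸ N) × U → classSet z := fun p =>
    ⟨p.1.out * (p.2.1 : Cfsg.Sz F m) * p.1.out⁻¹, fun h => p.2.2 (Subtype.ext (by
        rw [mul_inv_eq_one, mul_eq_left] at h; exact h)),
      p.1.out⁻¹, by
        rw [show p.1.out⁻¹ * (p.1.out * (p.2.1 : Cfsg.Sz F m) * p.1.out⁻¹) * p.1.out⁻¹⁻¹ =
          (p.2.1 : Cfsg.Sz F m) by group]
        exact p.2.1.2⟩
  have hf : Function.Bijective f := by
    constructor
    · rintro ⟨x, ⟨⟨u, hu⟩, hu1⟩⟩ ⟨y, ⟨⟨v, hv⟩, hv1⟩⟩ h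
      have h' : x.out * u * x.out⁻¹ = y.out * v * y.out⁻¹ := congrArg Subtype.val h
      have hu1' : u ≠ 1 := fun e => hu1 (Subtype.ext e)
      have hv1' : v ≠ 1 := fun e => hv1 (Subtype.ext e)
      set j := y.out⁻¹ * x.out with hj
      have hjuv : j * u * j⁻¹ = v := by
        calc j * u * j⁻¹ = y.out⁻¹ * (x.out * u * x.out⁻¹) * y.out := by rw [hj]; group
          _ = y.out⁻¹ * (y.out * v * y.out⁻¹) * y.out := by rw [h']
          _ = v := by group
      have hjN : j ∈ N := by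
        rw [Subgroup.mem_normalizer_iff]
        intro w
        have hcu : cT u = cT z := hz.cT_eq hS hu hu1'
        have hcv : cT (j * u * j⁻¹) = cT z := hjuv ▸ hz.cT_eq hS hv hv1'
        constructor
        · intro hw
          exact hcv ▸ mem_cT_conj (hcu.symm ▸ hw)
        · intro hw
          have := mem_cT_conj (k := j⁻¹) (hcv.symm ▸ hw : j * w * j⁻¹ ∈ cT (j * u * j⁻¹))
          rw [show j⁻¹ * (j * w * j⁻¹) * j⁻¹⁻¹ = w by group,
            show j⁻¹ * (j * u * j⁻¹) * j⁻¹⁻¹ = u by group] at this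
          exact hcu ▸ this
      have hxy : x = y := by
        rw [← QuotientGroup.out_eq' x, ← QuotientGroup.out_eq' y, eq_comm, QuotientGroup.eq]
        exact hjN
      subst hxy
      have huv : u = v := mul_left_cancel (mul_right_cancel h')
      subst huv
      rfl
    · rintro ⟨g, hg1, k, hk⟩
      set x : Cfsg.Sz F m ⧸ N := QuotientGroup.mk k⁻¹ with hx
      have hn : x.out⁻¹ * k⁻¹ ∈ N := QuotientGroup.eq.1 (QuotientGroup.out_eq' x)
      have hu : x.out⁻¹ * g * x.out ∈ cT z := by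
        have := (Subgroup.mem_normalizer_iff.1 hn (k * g * k⁻¹)).1 hk
        rwa [show x.out⁻¹ * k⁻¹ * (k * g * k⁻¹) * (x.out⁻¹ * k⁻¹)⁻¹ = x.out⁻¹ * g * x.out by group]
          at this
      refine ⟨(x, ⟨⟨_, hu⟩, fun e => hg1 ?_⟩), Subtype.ext ?_⟩
      · have e' : x.out⁻¹ * g * x.out = 1 := congrArg Subtype.val e
        calc g = x.out * (x.out⁻¹ * g * x.out) * x.out⁻¹ := by group
          _ = 1 := by rw [e']; group
      · show x.out * (x.out⁻¹ * g * x.out) * x.out⁻¹ = g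
        group
  rw [← Nat.card_eq_of_bijective f hf, Nat.card_prod]
  have hU : Nat.card U = Nat.card (cT z) - 1 := by
    rw [Nat.card_eq_fintype_card, Fintype.card_subtype_compl, Fintype.card_subtype_eq,
      Nat.card_eq_fintype_card]
  rw [hU, ← Subgroup.card_mul_index N, Subgroup.index]
  ring

theorem classSet_subset (hS : SzField F m) {z : Cfsg.Sz F m} (hz : IsAnisElt z) :
    classSet z ⊆ {g | ¬ FixesPoint g} := by
  rintro g ⟨hg, k, hk⟩ hfix
  refine hz.not_fixesPoint hS hk ?_ (hfix.conj k)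
  intro e; rw [mul_inv_eq_one, mul_eq_left] at e; exact hg e

theorem disjoint_classSet (hS : SzField F m) {z z' : Cfsg.Sz F m} (hz : IsAnisElt z)
    (hz' : IsAnisElt z') {r : ℕ} (hr : r.Prime) (h : r ∣ Nat.card (cT z'))
    (hn : ¬ r ∣ Nat.card (cT z)) : Disjoint (classSet z) (classSet z') := by
  rw [Set.disjoint_left]
  rintro g ⟨hg, k, hk⟩ ⟨-, l, hl⟩
  have hg1 : k * g * k⁻¹ ≠ 1 := by intro e; rw [mul_inv_eq_one, mul_eq_left] at e; exact hg e
  have hg2 : l * g * l⁻¹ ≠ 1 := by intro e; rw [mul_inv_eq_one, mul_eq_left] at e; exact hg e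
  apply hn
  rwa [← hz.cT_eq hS hk hg1, card_cT_conj, ← card_cT_conj g l, hz'.cT_eq hS hl hg2]

/-- Twice the number of derangements. -/
theorem two_mul_card_derangements (hS : SzField F m) :
    2 * Nat.card {g : Cfsg.Sz F m // ¬ FixesPoint g} =
      Fintype.card F ^ 3 * (Fintype.card F - 1) ^ 2 := by
  classical
  set G := Cfsg.Sz F m
  set Ω := Cfsg.suzukiOvoid F m
  haveI := sz_pretransitive hS
  haveI := sz_faithful hS
  letI : Fintype Ω := Fintype.ofFinite _
  letI : Fintype G := Fintype.ofFinite _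
  letI : ∀ g : G, Fintype (MulAction.fixedBy Ω g) := fun _ => Fintype.ofFinite _
  letI : ∀ g : G, Fintype (MulAction.fixedBy (Ω × Ω) g) := fun _ => Fintype.ofFinite _
  let fx : G → ℕ := fun g => Fintype.card (MulAction.fixedBy Ω g)
  have hG : Fintype.card G = Fintype.card F ^ 2 * (Fintype.card F ^ 2 + 1) * (Fintype.card F - 1) := by
    rw [← Nat.card_eq_fintype_card]; exact card_sz hS
  have hΩ : Fintype.card Ω = Fintype.card F ^ 2 + 1 := by
    rw [← Nat.card_eq_fintype_card]; exact card_suzukiOvoid m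
  have hq8 := hS.eight_le
  let S := Quotient (MulAction.orbitRel G Ω)
  letI : Fintype S := Fintype.ofFinite _
  have s1 : ∑ g : G, fx g = Fintype.card G := by
    have := MulAction.sum_card_fixedBy_eq_card_orbits_mul_card_group G Ω
    have h1 : Fintype.card S = 1 := by
      refine Fintype.card_eq_one_iff.2 ⟨Quotient.mk'' ovoidInf, fun x => ?_⟩
      induction x using Quotient.inductionOn' with
      | h p =>
        obtain ⟨g, hg⟩ := MulAction.exists_smul_eq G (ovoidInf : Ω) p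
        exact Quotient.sound' ⟨g, hg⟩
    rw [h1, one_mul] at this
    exact this
  let S2 := Quotient (MulAction.orbitRel G (Ω × Ω))
  letI : Fintype S2 := Fintype.ofFinite _
  have s2 : ∑ g : G, fx g * fx g = 2 * Fintype.card G := by
    have := MulAction.sum_card_fixedBy_eq_card_orbits_mul_card_group G (Ω × Ω)
    have h1 : Fintype.card S2 = 2 := by
      let φ : S2 → Bool := Quotient.lift (fun p : Ω × Ω => decide (p.1 = p.2)) (by
        rintro p r ⟨g, rfl⟩
        simp)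
      have hφ : Function.Bijective φ := by
        refine ⟨fun x y hxy => ?_, fun b => ?_⟩
        · induction x using Quotient.inductionOn' with
          | h p =>
            induction y using Quotient.inductionOn' with
            | h r =>
              obtain ⟨p1, p2⟩ := p
              obtain ⟨r1, r2⟩ := r
              have hxy' : decide (p1 = p2) = decide (r1 = r2) := hxy
              rw [decide_eq_decide] at hxy'
              apply Quotient.sound'
              by_cases hp : p1 = p2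
              · obtain ⟨g, hg⟩ := MulAction.exists_smul_eq G r1 p1
                exact ⟨g, Prod.ext hg (hxy'.1 hp ▸ hp ▸ hg)⟩
              · obtain ⟨g, h1, h2⟩ := MulAction.is_two_pretransitive_iff.1 (sz_two_pretransitive hS)
                  (fun h => hp (hxy'.2 h) : r1 ≠ r2) hp
                exact ⟨g, Prod.ext h1 h2⟩
        · cases b with
          | true => exact ⟨Quotient.mk'' (ovoidInf, ovoidInf), decide_eq_true rfl⟩
          | false =>
            exact ⟨Quotient.mk'' (ovoidInf, ovoidZero), decide_eq_false fun h =>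
              infinity_ne_zero (congrArg Subtype.val h)⟩
      rw [Fintype.card_of_bijective hφ, Fintype.card_bool]
    rw [h1] at this
    rw [← this]
    refine Finset.sum_congr rfl fun g _ => ?_
    rw [← Fintype.card_prod]
    exact Fintype.card_congr
      { toFun := fun p => ⟨(p.1.1, p.2.1), Prod.ext p.1.2 p.2.2⟩
        invFun := fun p => (⟨p.1.1, congrArg Prod.fst p.2⟩, ⟨p.1.2, congrArg Prod.snd p.2⟩)
        left_inv := fun p => rfl
        right_inv := fun p => rfl }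
  have hfx1 : fx 1 = Fintype.card F ^ 2 + 1 := by
    rw [← hΩ]
    exact Fintype.card_congr ⟨fun p => p.1, fun p => ⟨p, one_smul G p⟩, fun p => rfl, fun p => rfl⟩
  have hle : ∀ g : G, g ≠ 1 → fx g ≤ 2 := by
    intro g hg
    by_contra h
    push Not at h
    obtain ⟨⟨a, ha⟩, ⟨b, hb⟩, ⟨c, hc⟩, hab, hac, hbc⟩ := Fintype.two_lt_card_iff.1 h
    exact hg (Subtype.ext (sz_fix_three hS _ g.2 a.2 b.2 c.2
      (fun e => hab (Subtype.ext (Subtype.ext e))) (fun e => hbc (Subtype.ext (Subtype.ext e)))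
      (fun e => hac (Subtype.ext (Subtype.ext e)))
      (congrArg Subtype.val ha) (congrArg Subtype.val hb) (congrArg Subtype.val hc)))
  have key : ∀ g : G, ((fx g : ℤ) * fx g - 3 * fx g + 2) =
      (if FixesPoint g then 0 else 2) + (if g = 1 then (Fintype.card F : ℤ) ^ 2 * ((Fintype.card F : ℤ) ^ 2 - 1) else 0) := by
    intro g
    by_cases hg : g = 1
    · subst hg
      rw [if_pos ⟨ovoidInf, one_smul _ _⟩, if_pos rfl, hfx1]
      push_cast; ring
    · rw [if_neg hg, add_zero]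
      have h2 := hle g hg
      by_cases hf : FixesPoint g
      · rw [if_pos hf]
        have h1 : 1 ≤ fx g := Fintype.card_pos_iff.2 ⟨⟨hf.choose, hf.choose_spec⟩⟩
        interval_cases fx g <;> norm_num
      · rw [if_neg hf]
        have h0 : fx g = 0 := Fintype.card_eq_zero_iff.2 ⟨fun p => hf ⟨p.1, p.2⟩⟩
        rw [h0]; norm_num
  have tot := Finset.sum_congr (rfl : (Finset.univ : Finset G) = Finset.univ) (fun g _ => key g)
  rw [Finset.sum_add_distrib, Finset.sum_sub_distrib, Finset.sum_add_distrib, Finset.sum_ite_eq',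
    if_pos (Finset.mem_univ _), ← Finset.mul_sum, Finset.sum_const, Finset.card_univ, Finset.sum_ite,
    Finset.sum_const_zero, zero_add, Finset.sum_const, nsmul_eq_mul, nsmul_eq_mul] at tot
  have c1 : (∑ g : G, (fx g : ℤ)) = Fintype.card G := by exact_mod_cast s1
  have c2 : (∑ g : G, (fx g : ℤ) * fx g) = 2 * Fintype.card G := by exact_mod_cast s2
  rw [c1, c2, ← Fintype.card_subtype, hG] at tot
  rw [Nat.card_eq_fintype_card]
  obtain ⟨t, ht⟩ : ∃ t, Fintype.card F = t + 1 := ⟨Fintype.card F - 1, by omega⟩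
  rw [ht] at tot ⊢
  simp only [Nat.add_sub_cancel] at tot ⊢
  push_cast at tot
  zify
  linear_combination -tot

/-- The orders of the anisotropic tori, with their normalisers. -/
theorem exists_torus (hS : SzField F m) {k : ℕ}
    (hk : k = Fintype.card F + 2 ^ (m + 1) + 1 ∨ k = Fintype.card F - 2 ^ (m + 1) + 1) :
    ∃ z : Cfsg.Sz F m, IsAnisElt z ∧ Nat.card (cT z) = k ∧
      Nat.card (Subgroup.normalizer (cT z : Set (Cfsg.Sz F m))) = 4 * k := by
  classical
  set q := Fintype.card F with hq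
  set A := q ^ 2 * (q - 1) with hA
  have hq8 : 8 ≤ q := hS.eight_le
  set R := Nat.card {g : Cfsg.Sz F m // ¬ FixesPoint g}
  have hR : 2 * R = q ^ 3 * (q - 1) ^ 2 := two_mul_card_derangements hS
  have hGc : Nat.card (Cfsg.Sz F m) = A * (q ^ 2 + 1) := by rw [card_sz hS, hA]; ring
  have hA0 : 0 < A := Nat.mul_pos (pow_pos (by omega) 2) (by omega)
  have hRlt : 2 * R < A * (q ^ 2 + 1) := by
    rw [hR, hA]
    obtain ⟨t, ht⟩ : ∃ t, q = t + 1 := ⟨q - 1, by omega⟩
    rw [ht] at hq8 ⊢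
    simp only [Nat.add_sub_cancel]
    nlinarith [Nat.mul_pos (pow_pos (by omega : 0 < t + 1) 2) (by omega : 0 < t)]
  -- bound for each class
  have hbd : ∀ z : Cfsg.Sz F m, IsAnisElt z →
      A * (q ^ 2 + 1) ≤ 5 * Nat.card (classSet z) ∧
      ∀ n, Nat.card (Subgroup.normalizer (cT z : Set (Cfsg.Sz F m))) = n * Nat.card (cT z) →
        n ≤ 2 → 2 * (A * (q ^ 2 + 1)) ≤ 5 * Nat.card (classSet z) := by
    intro z hz
    obtain ⟨n, hn, hN⟩ := hz.normalizer_card hS
    have hx := card_classSet hS hz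
    rw [hN, hGc] at hx
    have h5 := hz.five_le hS
    obtain ⟨c, hc⟩ : ∃ c, Nat.card (cT z) = c + 1 := ⟨_, (Nat.succ_pred_eq_of_pos Nat.card_pos).symm⟩
    rw [hc] at hx h5
    simp only [Nat.add_sub_cancel] at hx
    refine ⟨?_, fun n' hn' hle => ?_⟩
    · have hn4 : n ≤ 4 := by omega
      nlinarith [Nat.mul_le_mul_left (Nat.card (classSet z)) (Nat.mul_le_mul_right (c + 1) hn4),
        Nat.mul_le_mul_left (A * (q ^ 2 + 1)) (by omega : 4 * (c + 1) ≤ 5 * c)]
    · have : n' = n := Nat.eq_of_mul_eq_mul_right Nat.card_pos (hn'.symm.trans hN)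
      subst this
      nlinarith [Nat.mul_le_mul_left (Nat.card (classSet z)) (Nat.mul_le_mul_right (c + 1) hle),
        Nat.mul_le_mul_left (A * (q ^ 2 + 1)) (by omega : 4 * (c + 1) ≤ 5 * c)]
  -- a number with every full prime power of `q² + 1`
  have hfull : ∀ d, d ∣ q ^ 2 + 1 →
      (∀ r, r.Prime → r ∣ q ^ 2 + 1 → r ^ (Nat.card (Cfsg.Sz F m)).factorization r ∣ d) →
      d = q ^ 2 + 1 := by
    intro d hd hr
    refine Nat.dvd_antisymm hd ?_
    rw [Nat.dvd_iff_prime_pow_dvd_dvd]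
    intro r e hrp he
    rcases Nat.eq_zero_or_pos e with rfl | hpos
    · simp
    have hrd : r ∣ q ^ 2 + 1 := dvd_trans (dvd_pow_self r hpos.ne') he
    refine dvd_trans (pow_dvd_pow r ?_) (hr r hrp hrd)
    rw [← Nat.Prime.pow_dvd_iff_le_factorization hrp Nat.card_pos.ne', hGc]
    exact Dvd.dvd.mul_left he _
  have hsub : ∀ s : Set (Cfsg.Sz F m), s ⊆ {g | ¬ FixesPoint g} → Nat.card s ≤ R := fun s hs =>
    Nat.card_mono (Set.toFinite _) hs
  obtain ⟨r₁, hr₁, hr₁d⟩ := Nat.exists_prime_and_dvd (show q ^ 2 + 1 ≠ 1 by nlinarith)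
  obtain ⟨z₁, hz₁, hz₁r⟩ := exists_anis_elt hr₁ hr₁d hS
  set c₁ := Nat.card (cT z₁) with hc₁
  -- every derangement is covered by the classes whose orders contain all primes
  have hcover : ∀ g : Cfsg.Sz F m, ¬ FixesPoint g → ∀ r, r.Prime →
      (∀ z w : Cfsg.Sz F m, IsAnisElt z → IsAnisElt w → orderOf w = r → g ∈ cT w →
        r ∣ Nat.card (cT z) → g ∈ classSet z) := by
    intro g hg r hr z w hz hw hwr hgw hrz
    have hg1 : g ≠ 1 := fun h => hg ⟨ovoidInf, by rw [h, one_smul]⟩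
    obtain ⟨k, hk⟩ := hw.exists_conj hS hz hr (hwr ▸ orderOf_dvd_card_cT w) hrz
    exact ⟨hg1, k, hk ▸ mem_cT_conj hgw⟩
  by_cases hone : ∀ r, r.Prime → r ∣ q ^ 2 + 1 → r ∣ c₁
  · exfalso
    have hc : c₁ = q ^ 2 + 1 := hfull _ (hz₁.card_dvd hS) fun r hr hrd =>
      hz₁.ordProj_dvd hS hr (hone r hr hrd)
    have heq : Nat.card (classSet z₁) = R := by
      refine le_antisymm (hsub _ (classSet_subset hS hz₁)) (Nat.card_mono (Set.toFinite _) ?_)
      intro g hg
      obtain ⟨p, w, hp, hw, hle⟩ := exists_anis_of_not_fixesPoint hS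
        (fun h => hg ⟨ovoidInf, by rw [h, one_smul]⟩) hg
      have hwA : IsAnisElt w := by rw [IsAnisElt, hw]; exact hp
      exact hcover g hg p hp.prime z₁ w hz₁ hwA hw (hle (mem_cT.2 rfl)) (hone p hp.prime hp.dvd)
    obtain ⟨n, hn, hN⟩ := hz₁.normalizer_card hS
    have hx := card_classSet hS hz₁
    rw [hN, hGc, ← hc₁, hc, heq, Nat.add_sub_cancel] at hx
    have h1 : 2 * R * n = A * (2 * q ^ 2) := by
      have h2 := Nat.eq_of_mul_eq_mul_right (show 0 < q ^ 2 + 1 by positivity)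
        (show R * n * (q ^ 2 + 1) = A * q ^ 2 * (q ^ 2 + 1) by linear_combination hx)
      linear_combination 2 * h2
    rw [hR, hA] at h1
    have h3 : (q - 1) * n = 2 * q := by
      refine Nat.eq_of_mul_eq_mul_left (show 0 < q ^ 3 * (q - 1) from Nat.mul_pos (pow_pos (by omega) 3) (by omega)) ?_
      linear_combination h1
    rcases hn with rfl | rfl | rfl <;> omega
  push Not at hone
  obtain ⟨r₂, hr₂, hr₂d, hr₂n⟩ := hone
  obtain ⟨z₂, hz₂, hz₂r⟩ := exists_anis_elt hr₂ hr₂d hS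
  set c₂ := Nat.card (cT z₂) with hc₂
  have hr₂c : r₂ ∣ c₂ := hz₂r ▸ orderOf_dvd_card_cT z₂
  have hcop : Nat.Coprime c₁ c₂ := Nat.coprime_of_dvd fun r hr h h' =>
    hr₂n (by rw [hc₁, hz₁.card_eq_of_dvd hS hz₂ hr h h']; exact hr₂c)
  have hd12 : Disjoint (classSet z₁) (classSet z₂) := disjoint_classSet hS hz₁ hz₂ hr₂ hr₂c hr₂n
  have hcard12 : Nat.card (classSet z₁ ∪ classSet z₂ : Set (Cfsg.Sz F m)) =
      Nat.card (classSet z₁) + Nat.card (classSet z₂) := by
    simp only [Nat.card_coe_set_eq]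
    exact Set.ncard_union_eq hd12 (Set.toFinite _) (Set.toFinite _)
  have hprimes : ∀ r, r.Prime → r ∣ q ^ 2 + 1 → r ∣ c₁ ∨ r ∣ c₂ := by
    intro r hr hrd
    by_contra hn
    push Not at hn
    obtain ⟨z₃, hz₃, hz₃r⟩ := exists_anis_elt hr hrd hS
    have hr₃ : r ∣ Nat.card (cT z₃) := hz₃r ▸ orderOf_dvd_card_cT z₃
    have hdis : Disjoint (classSet z₁ ∪ classSet z₂) (classSet z₃) := Set.disjoint_union_left.2
      ⟨disjoint_classSet hS hz₁ hz₃ hr hr₃ hn.1, disjoint_classSet hS hz₂ hz₃ hr hr₃ hn.2⟩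
    have := hsub (classSet z₁ ∪ classSet z₂ ∪ classSet z₃) (Set.union_subset
      (Set.union_subset (classSet_subset hS hz₁) (classSet_subset hS hz₂)) (classSet_subset hS hz₃))
    rw [Nat.card_coe_set_eq, Set.ncard_union_eq hdis (Set.toFinite _) (Set.toFinite _),
      ← Nat.card_coe_set_eq, hcard12, ← Nat.card_coe_set_eq] at this
    have := (hbd z₁ hz₁).1
    have := (hbd z₂ hz₂).1
    have := (hbd z₃ hz₃).1
    omega
  have hprod : c₁ * c₂ = q ^ 2 + 1 := hfull _
    (Nat.Coprime.mul_dvd_of_dvd_of_dvd hcop (hz₁.card_dvd hS) (hz₂.card_dvd hS)) fun r hr hrd => by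
      rcases hprimes r hr hrd with h | h
      · exact Dvd.dvd.mul_right (hz₁.ordProj_dvd hS hr h) _
      · exact Dvd.dvd.mul_left (hz₂.ordProj_dvd hS hr h) _
  have hsum : Nat.card (classSet z₁) + Nat.card (classSet z₂) = R := by
    rw [← hcard12]
    refine le_antisymm (hsub _ (Set.union_subset (classSet_subset hS hz₁) (classSet_subset hS hz₂)))
      (Nat.card_mono (Set.toFinite _) ?_)
    intro g hg
    obtain ⟨p, w, hp, hw, hle⟩ := exists_anis_of_not_fixesPoint hS
      (fun h => hg ⟨ovoidInf, by rw [h, one_smul]⟩) hg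
    have hwA : IsAnisElt w := by rw [IsAnisElt, hw]; exact hp
    rcases hprimes p hp.prime hp.dvd with h | h
    · exact Or.inl (hcover g hg p hp.prime z₁ w hz₁ hwA hw (hle (mem_cT.2 rfl)) h)
    · exact Or.inr (hcover g hg p hp.prime z₂ w hz₂ hwA hw (hle (mem_cT.2 rfl)) h)
  obtain ⟨n₁, hn₁, hN₁⟩ := hz₁.normalizer_card hS
  obtain ⟨n₂, hn₂, hN₂⟩ := hz₂.normalizer_card hS
  have e₁ : n₁ = 4 := by
    by_contra hne
    have := (hbd z₁ hz₁).2 n₁ hN₁ (by omega)
    have := (hbd z₂ hz₂).1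
    omega
  have e₂ : n₂ = 4 := by
    by_contra hne
    have := (hbd z₂ hz₂).2 n₂ hN₂ (by omega)
    have := (hbd z₁ hz₁).1
    omega
  subst e₁; subst e₂
  have x₁ := card_classSet hS hz₁
  have x₂ := card_classSet hS hz₂
  rw [hN₁, hGc, ← hc₁, ← hprod] at x₁
  rw [hN₂, hGc, ← hc₂, ← hprod] at x₂
  have h1 : 1 ≤ c₁ := Nat.card_pos
  have h2 : 1 ≤ c₂ := Nat.card_pos
  have hs : c₁ + c₂ = 2 * q + 2 := by
    have y₁ : 4 * Nat.card (classSet z₁) = A * c₂ * (c₁ - 1) :=
      Nat.eq_of_mul_eq_mul_right h1 (by linear_combination x₁)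
    have y₂ : 4 * Nat.card (classSet z₂) = A * c₁ * (c₂ - 1) :=
      Nat.eq_of_mul_eq_mul_right h2 (by linear_combination x₂)
    have y : A * (c₂ * (c₁ - 1) + c₁ * (c₂ - 1)) = A * (2 * (q * (q - 1))) := by
      calc A * (c₂ * (c₁ - 1) + c₁ * (c₂ - 1)) = 2 * (2 * R) := by
            linear_combination -y₁ - y₂ + 4 * hsum
        _ = _ := by rw [hR, hA]; ring
    have y' := Nat.eq_of_mul_eq_mul_left hA0 y
    zify [h1, h2, (by omega : 1 ≤ q)] at y' hprod ⊢
    linear_combination -y' + 2 * hprod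
  have hr2 : (2 ^ (m + 1)) ^ 2 = 2 * q := by
    rw [hq, hS.card_eq, ← pow_mul, ← pow_succ']; congr 1; omega
  have hrq : 2 ^ (m + 1) ≤ q := by
    rw [hq, hS.card_eq]; exact Nat.pow_le_pow_right (by norm_num) (by omega)
  set s := 2 ^ (m + 1) with hs'
  have hroot : c₁ = q + s + 1 ∨ c₁ = q - s + 1 := by
    zify [hrq] at hprod hs hr2 ⊢
    have : ((c₁ : ℤ) - (q + s + 1)) * ((c₁ : ℤ) - (q - s + 1)) = 0 := by
      linear_combination (c₁ : ℤ) * hs - hprod - hr2
    rcases mul_eq_zero.1 this with h | h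
    · exact Or.inl (by linear_combination h)
    · exact Or.inr (by linear_combination h)
  have hk' : k = c₁ ∨ k = c₂ := by
    rcases hk with rfl | rfl <;> omega
  rcases hk' with rfl | rfl
  · exact ⟨z₁, hz₁, rfl, hN₁⟩
  · exact ⟨z₂, hz₂, rfl, hN₂⟩

end CfsgLib.Suzuki
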