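import Mathlib

/-!
A matrix of prime order `p` over a field with `q` elements, when `n` is the order of `q` mod `p`, has an
irreducible minimal polynomial of degree `n`, and its centraliser is the multiplicative group of a field.
-/

set_option autoImplicit false
set_option linter.style.haveILetI false
set_option linter.unusedSectionVars false

namespace CfsgLib.Suzuki

open Polynomial

variable {F : Type*} [Field F] [Fintype F] {n p : ℕ}

theorem minpoly_irreducible_of_prime_order [NeZero n] (M : Matrix (Fin n) (Fin n) F) (hp : p.Prime)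
    (hpF : (p : F) ≠ 0) (hM : M ^ p = 1) (hM1 : M ≠ 1)
    (hord : ∀ d, p ∣ Fintype.card F ^ d - 1 → n ∣ d) :
    Irreducible (minpoly F M) ∧ (minpoly F M).natDegree = n := by
  classical
  have hint : IsIntegral F M := Matrix.isIntegral M
  set μ := minpoly F M with hμdef
  have hmonic : μ.Monic := minpoly.monic hint
  have hdiv : μ ∣ (X : F[X]) ^ p - 1 := minpoly.dvd F M (by simp [hM])
  have hsf : Squarefree μ :=
    Squarefree.squarefree_of_dvd hdiv (separable_X_pow_sub_C (1 : F) hpF one_ne_zero).squarefree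
  have hdeg : μ.natDegree ≤ n := by
    have h1 : μ ∣ M.charpoly := Matrix.minpoly_dvd_charpoly M
    have := Polynomial.natDegree_le_of_dvd h1 (Matrix.charpoly_monic M).ne_zero
    rwa [Matrix.charpoly_natDegree_eq_dim, Fintype.card_fin] at this
  obtain ⟨P, hP, hPμ, hPX⟩ : ∃ P : F[X], Irreducible P ∧ P ∣ μ ∧ ¬ P ∣ (X - 1 : F[X]) := by
    have hX1 : Irreducible (X - 1 : F[X]) := by
      simpa using irreducible_X_sub_C (1 : F)
    by_cases hx : (X - 1 : F[X]) ∣ μ
    · obtain ⟨μ', hμ'⟩ := hx
      have hnu : ¬ IsUnit μ' := by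
        intro hu
        obtain ⟨w, hw⟩ := hu
        have h0 : Polynomial.aeval M μ = 0 := minpoly.aeval F M
        rw [hμ', ← hw, map_mul] at h0
        have hu' : IsUnit (Polynomial.aeval M (w : F[X])) := w.isUnit.map _
        rw [hu'.mul_left_eq_zero] at h0
        simp only [map_sub, map_one, aeval_X, sub_eq_zero] at h0
        exact hM1 h0
      have hμ'0 : μ' ≠ 0 := fun h => hmonic.ne_zero (by rw [hμ', h, mul_zero])
      obtain ⟨P, hP, hPd⟩ := WfDvdMonoid.exists_irreducible_factor hnu hμ'0
      refine ⟨P, hP, hPd.trans ⟨X - 1, by rw [hμ', mul_comm]⟩, fun hd => ?_⟩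
      have hassoc : Associated P (X - 1 : F[X]) := hP.associated_of_dvd hX1 hd
      exact hX1.not_isUnit (hsf _ (hμ' ▸ mul_dvd_mul_left _ (hassoc.symm.dvd.trans hPd)))
    · obtain ⟨P, hP, hPd⟩ :=
        WfDvdMonoid.exists_irreducible_factor (minpoly.not_isUnit F M) hmonic.ne_zero
      refine ⟨P, hP, hPd, fun hd => hx ?_⟩
      exact (hP.associated_of_dvd hX1 hd).symm.dvd.trans hPd
  haveI : Fact (Irreducible P) := ⟨hP⟩
  have hP0 : P ≠ 0 := hP.ne_zero
  haveI : Module.Finite F (AdjoinRoot P) := (AdjoinRoot.powerBasis hP0).finite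
  haveI : Finite (AdjoinRoot P) := Module.finite_of_finite F
  letI : Fintype (AdjoinRoot P) := Fintype.ofFinite _
  set α : AdjoinRoot P := AdjoinRoot.root P
  have hα : ∀ g : F[X], Polynomial.aeval α g = 0 ↔ P ∣ g := by
    intro g
    rw [AdjoinRoot.aeval_eq, AdjoinRoot.mk_eq_zero]
  have hαp : α ^ p = 1 := by
    have := (hα ((X : F[X]) ^ p - 1)).2 (hPμ.trans hdiv)
    simpa [sub_eq_zero] using this
  have hα1 : α ≠ 1 := by
    intro h
    refine hPX ((hα _).1 ?_)
    simp [h]
  have hαord : orderOf α = p := by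
    rcases (Nat.dvd_prime hp).1 (orderOf_dvd_of_pow_eq_one hαp) with h | h
    · exact absurd (orderOf_eq_one_iff.1 h) hα1
    · exact h
  have hα0 : α ≠ 0 := fun h => by
    rw [h, zero_pow hp.ne_zero] at hαp
    exact zero_ne_one hαp
  have hcard : Fintype.card (AdjoinRoot P) = Fintype.card F ^ P.natDegree := by
    rw [Module.card_eq_pow_finrank (K := F) (V := AdjoinRoot P),
      PowerBasis.finrank (AdjoinRoot.powerBasis hP0), AdjoinRoot.powerBasis_dim]
  have hdvd : p ∣ Fintype.card F ^ P.natDegree - 1 := by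
    rw [← hαord, ← hcard]
    exact orderOf_dvd_of_pow_eq_one (FiniteField.pow_card_sub_one_eq_one α hα0)
  have hle : n ≤ P.natDegree := Nat.le_of_dvd hP.natDegree_pos (hord _ hdvd)
  have hle' : P.natDegree ≤ μ.natDegree := Polynomial.natDegree_le_of_dvd hPμ hmonic.ne_zero
  obtain ⟨w, hw⟩ := hPμ
  have hw0 : w ≠ 0 := fun h => hmonic.ne_zero (by rw [hw, h, mul_zero])
  have hwu : IsUnit w := by
    rw [Polynomial.isUnit_iff_degree_eq_zero, Polynomial.degree_eq_natDegree hw0]
    have hsum := Polynomial.natDegree_mul hP0 hw0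
    rw [← hw] at hsum
    have : w.natDegree = 0 := by omega
    simp [this]
  exact ⟨hw ▸ (irreducible_mul_isUnit hwu).2 hP, by omega⟩

/-- Evaluation of `AdjoinRoot (minpoly F M)` at `M`. -/
noncomputable def minpolyEval (M : Matrix (Fin n) (Fin n) F) :
    AdjoinRoot (minpoly F M) →ₐ[F] Matrix (Fin n) (Fin n) F :=
  { Ideal.Quotient.lift (Ideal.span {minpoly F M})
      (Polynomial.aeval M : F[X] →ₐ[F] Matrix (Fin n) (Fin n) F).toRingHom
      (fun a ha => by
        obtain ⟨b, rfl⟩ := Ideal.mem_span_singleton.1 ha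
        show Polynomial.aeval M (minpoly F M * b) = 0
        rw [map_mul, minpoly.aeval, zero_mul]) with
    commutes' := fun c => Polynomial.aeval_C M c }

theorem minpolyEval_mk (M : Matrix (Fin n) (Fin n) F) (f : F[X]) :
    minpolyEval M (AdjoinRoot.mk _ f) = Polynomial.aeval M f := rfl

theorem minpolyEval_root (M : Matrix (Fin n) (Fin n) F) :
    minpolyEval M (AdjoinRoot.root _) = M :=
  Polynomial.aeval_X M

theorem commutant_mem_range [NeZero n] (M N : Matrix (Fin n) (Fin n) F)
    (hirr : Irreducible (minpoly F M)) (hdeg : (minpoly F M).natDegree = n)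
    (hN : N * M = M * N) : ∃ k, minpolyEval M k = N := by
  haveI : Fact (Irreducible (minpoly F M)) := ⟨hirr⟩
  have hμ0 : minpoly F M ≠ 0 := hirr.ne_zero
  haveI : Module.Finite F (AdjoinRoot (minpoly F M)) := (AdjoinRoot.powerBasis hμ0).finite
  let v : Fin n → F := Pi.single 0 1
  have hv : v ≠ 0 := by simp [v]
  let ψ : AdjoinRoot (minpoly F M) →ₗ[F] (Fin n → F) :=
    { toFun := fun k => (minpolyEval M k).mulVec v
      map_add' := fun k l => by rw [map_add, Matrix.add_mulVec]
      map_smul' := fun c k => by rw [map_smul, Matrix.smul_mulVec]; rfl }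
  have hψ : Function.Injective ψ := by
    rw [← LinearMap.ker_eq_bot, LinearMap.ker_eq_bot']
    intro k hk
    by_contra hk0
    have : ((minpolyEval M k⁻¹) * (minpolyEval M k)).mulVec v = 0 := by
      rw [← Matrix.mulVec_mulVec]
      simp only [ψ, LinearMap.coe_mk, AddHom.coe_mk] at hk
      rw [hk, Matrix.mulVec_zero]
    rw [← map_mul, inv_mul_cancel₀ hk0, map_one, Matrix.one_mulVec] at this
    exact hv this
  have hfr : Module.finrank F (AdjoinRoot (minpoly F M)) = Module.finrank F (Fin n → F) := by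
    rw [PowerBasis.finrank (AdjoinRoot.powerBasis hμ0), AdjoinRoot.powerBasis_dim, hdeg,
      Module.finrank_fin_fun]
  have hsurj := (LinearMap.injective_iff_surjective_of_finrank_eq_finrank hfr).1 hψ
  have hcomm : ∀ k, N * minpolyEval M k = minpolyEval M k * N := by
    intro k
    induction k using AdjoinRoot.induction_on with
    | ih f =>
      rw [minpolyEval_mk]
      exact (Algebra.commute_of_mem_adjoin_singleton_of_commute
        (Polynomial.aeval_mem_adjoin_singleton F M) hN).eq
  obtain ⟨k₀, hk₀⟩ := hsurj (N.mulVec v)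
  refine ⟨k₀, Matrix.ext_of_mulVec_single fun i => ?_⟩
  obtain ⟨k, hk⟩ := hsurj (Pi.single i 1)
  simp only [ψ, LinearMap.coe_mk, AddHom.coe_mk] at hk hk₀
  rw [← hk, Matrix.mulVec_mulVec, Matrix.mulVec_mulVec, ← map_mul, mul_comm, map_mul,
    ← Matrix.mulVec_mulVec, hk₀, Matrix.mulVec_mulVec, hcomm]

theorem card_minpolyField [NeZero n] (M : Matrix (Fin n) (Fin n) F)
    (hirr : Irreducible (minpoly F M)) (hdeg : (minpoly F M).natDegree = n) :
    Nat.card (AdjoinRoot (minpoly F M)) = Fintype.card F ^ n := by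
  haveI : Module.Finite F (AdjoinRoot (minpoly F M)) := (AdjoinRoot.powerBasis hirr.ne_zero).finite
  rw [Module.natCard_eq_pow_finrank (K := F), PowerBasis.finrank (AdjoinRoot.powerBasis hirr.ne_zero),
    AdjoinRoot.powerBasis_dim, hdeg, Nat.card_eq_fintype_card]

/-- A finite group embedded in matrices commuting with `M` is cyclic. -/
theorem isCyclic_of_commute {H : Type*} [Group H] [Finite H] [NeZero n]
    (M : Matrix (Fin n) (Fin n) F) (hirr : Irreducible (minpoly F M))
    (hdeg : (minpoly F M).natDegree = n) (f : H →* Matrix (Fin n) (Fin n) F)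
    (hf : Function.Injective f) (hc : ∀ h, f h * M = M * f h) : IsCyclic H := by
  haveI : Fact (Irreducible (minpoly F M)) := ⟨hirr⟩
  choose k hk using fun h => commutant_mem_range M (f h) hirr hdeg (hc h)
  have hinj : Function.Injective (minpolyEval M) := (minpolyEval M).toRingHom.injective
  let φ : H →* AdjoinRoot (minpoly F M) :=
    { toFun := k
      map_one' := hinj (by rw [hk, map_one, map_one])
      map_mul' := fun a b => hinj (by rw [hk, map_mul, map_mul, hk, hk]) }
  exact isCyclic_of_injective_ringHom φ (fun a b hab => hf (by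
    rw [← hk a, ← hk b]; exact congrArg (minpolyEval M) hab))

end CfsgLib.Suzuki
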