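import Cfsg.Agent.Suzuki.Simple
import Cfsg.Agent.Suzuki.FieldCentralizer

/-!
Centralisers in `Cfsg.Sz F m`: unipotent, split torus, and anisotropic elements; the group is a CN-group and
its odd Sylow subgroups are cyclic.
-/

set_option autoImplicit false
set_option linter.unusedSectionVars false
set_option linter.style.haveILetI false

namespace CfsgLib.Suzuki

local notation "SL4" F:max => Matrix.SpecialLinearGroup (Fin 4) F

variable {F : Type*} [Field F] [Fintype F] {m : ℕ}

/-- A prime dividing `q² + 1`. -/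
structure Anis (F : Type*) [Fintype F] (p : ℕ) : Prop where
  prime : p.Prime
  dvd : p ∣ Fintype.card F ^ 2 + 1

theorem SzField.even_card (hS : SzField F m) : 2 ∣ Fintype.card F := by
  rw [hS.card_eq]; exact dvd_pow_self 2 (by omega)

theorem Anis.ne_two (hS : SzField F m) {p : ℕ} (hp : Anis F p) : p ≠ 2 := by
  rintro rfl
  have h1 := hp.dvd
  have h2 : 2 ∣ Fintype.card F ^ 2 := dvd_pow hS.even_card two_ne_zero
  omega

theorem Anis.not_dvd_card (hS : SzField F m) {p : ℕ} (hp : Anis F p) :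
    ¬ p ∣ Fintype.card F ^ 2 * (Fintype.card F - 1) := by
  intro h
  have h2 := hp.ne_two hS
  rcases (Nat.Prime.dvd_mul hp.prime).1 h with h | h
  · have := (Nat.dvd_add_right h).1 hp.dvd
    exact hp.prime.ne_one (Nat.dvd_one.1 this)
  · obtain ⟨k, hk⟩ : ∃ k, Fintype.card F = k + 1 := ⟨Fintype.card F - 1, by have := hS.eight_le; omega⟩
    rw [hk] at h
    have h1 := hp.dvd
    rw [hk, show (k + 1) ^ 2 + 1 = k * (k + 2) + 2 by ring] at h1
    have := (Nat.dvd_add_right (Dvd.dvd.mul_right (by simpa using h) _)).1 h1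
    exact h2 ((Nat.prime_dvd_prime_iff_eq hp.prime Nat.prime_two).1 this)

theorem Anis.four_dvd (hS : SzField F m) {p : ℕ} (hp : Anis F p) {d : ℕ}
    (hd : p ∣ Fintype.card F ^ d - 1) : 4 ∣ d := by
  haveI := Fact.mk hp.prime
  have h2 := hp.ne_two hS
  set x : ZMod p := (Fintype.card F : ZMod p) with hx
  have hx2 : x ^ 2 = -1 := by
    have := (ZMod.natCast_eq_zero_iff (Fintype.card F ^ 2 + 1) p).2 hp.dvd
    push_cast at this
    linear_combination this
  have hxd : x ^ d = 1 := by
    have h1 : 1 ≤ Fintype.card F ^ d := Nat.one_le_pow _ _ Fintype.card_pos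
    have := (ZMod.natCast_eq_zero_iff (Fintype.card F ^ d - 1) p).2 hd
    rw [Nat.cast_sub h1] at this
    push_cast at this
    linear_combination this
  have hne : (-1 : ZMod p) ≠ 1 := by
    haveI : Fact (2 < p) := ⟨by have := hp.prime.two_le; omega⟩
    exact ZMod.neg_one_ne_one
  have hx4 : x ^ 4 = 1 := by linear_combination (x ^ 2 - 1) * hx2
  have hord : orderOf x = 4 := by
    refine orderOf_eq_prime_pow (p := 2) (n := 1) ?_ (by simpa using hx4)
    simp only [pow_one, hx2]
    exact hne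
  rw [← hord]
  exact orderOf_dvd_of_pow_eq_one hxd

theorem natCast_ne_zero_of_anis (hS : SzField F m) {p : ℕ} (hp : Anis F p) : (p : F) ≠ 0 := by
  haveI := hS.charP
  intro h
  exact hp.ne_two hS ((Nat.prime_dvd_prime_iff_eq Nat.prime_two hp.prime).1
    ((CharP.cast_eq_zero_iff F 2 p).1 h)).symm

theorem anis_matrix (hS : SzField F m) {p : ℕ} (hp : Anis F p) {g : Cfsg.Sz F m}
    (hg : orderOf g = p) :
    Irreducible (minpoly F ((g : SL4 F) : Matrix (Fin 4) (Fin 4) F)) ∧
      (minpoly F ((g : SL4 F) : Matrix (Fin 4) (Fin 4) F)).natDegree = 4 := by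
  refine minpoly_irreducible_of_prime_order _ hp.prime (natCast_ne_zero_of_anis hS hp) ?_ ?_
    (fun d hd => hp.four_dvd hS hd)
  · rw [← Matrix.SpecialLinearGroup.coe_pow, ← Subgroup.coe_pow, ← hg, pow_orderOf_eq_one]
    rfl
  · intro h
    refine hp.prime.ne_one (hg ▸ orderOf_eq_one_iff.2 ?_)
    exact Subtype.ext (Subtype.ext h)

/-- The centraliser of an anisotropic element of prime order is cyclic. -/
theorem isCyclic_centralizer_of_anis (hS : SzField F m) {p : ℕ} (hp : Anis F p) {g : Cfsg.Sz F m}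
    (hg : orderOf g = p) : IsCyclic (Subgroup.centralizer ({g} : Set (Cfsg.Sz F m))) := by
  obtain ⟨h1, h2⟩ := anis_matrix hS hp hg
  refine isCyclic_of_commute _ h1 h2
    { toFun := fun h => (((h : Cfsg.Sz F m) : SL4 F) : Matrix (Fin 4) (Fin 4) F)
      map_one' := rfl
      map_mul' := fun _ _ => rfl }
    (fun a b h => Subtype.ext (Subtype.ext (Subtype.ext h))) (fun h => ?_)
  exact congrArg (fun x : Cfsg.Sz F m => ((x : SL4 F) : Matrix (Fin 4) (Fin 4) F))
    (Subgroup.mem_centralizer_singleton_iff.1 h.2)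

/-- `g` fixes some ovoid point. -/
def FixesPoint (g : Cfsg.Sz F m) : Prop := ∃ p : Cfsg.suzukiOvoid F m, g • p = p

theorem FixesPoint.conj {g : Cfsg.Sz F m} (h : FixesPoint g) (k : Cfsg.Sz F m) :
    FixesPoint (k * g * k⁻¹) := by
  obtain ⟨p, hp⟩ := h
  exact ⟨k • p, by rw [mul_smul, mul_smul, inv_smul_smul, hp]⟩

theorem FixesPoint.exists_conj_infinity (hS : SzField F m) {g : Cfsg.Sz F m} (h : FixesPoint g) :
    ∃ k : Cfsg.Sz F m, (k * g * k⁻¹) • ovoidInf (F := F) (m := m) = ovoidInf := by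
  obtain ⟨p, hp⟩ := h
  obtain ⟨k, hk⟩ := (sz_pretransitive hS).exists_smul_eq p ovoidInf
  exact ⟨k, by rw [← hk, mul_smul, mul_smul, inv_smul_smul, hp]⟩

theorem not_fixesPoint_of_anis (hS : SzField F m) {p : ℕ} (hp : Anis F p) {g : Cfsg.Sz F m}
    (hg : orderOf g = p) : ¬ FixesPoint g := by
  intro h
  obtain ⟨k, hk⟩ := h.exists_conj_infinity hS
  have hord : orderOf (k * g * k⁻¹) = p := by
    rw [← MulAut.conj_apply k g]
    exact (MulEquiv.orderOf_eq (MulAut.conj k) g).trans hg
  refine hp.not_dvd_card hS ?_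
  rw [← hord, ← card_pointStab hS]
  exact Subgroup.orderOf_dvd_natCard _
    (MulAction.mem_stabilizer_iff.2 (congrArg Subtype.val hk))

/-- Centraliser of a non-trivial unipotent element. -/
theorem centralizer_uniEl_le (hS : SzField F m) {a b : F} (hne : uniEl hS a b ≠ 1) :
    Subgroup.centralizer ({uniEl hS a b} : Set (Cfsg.Sz F m)) ≤ uniSub hS := by
  intro h hh
  rw [Subgroup.mem_centralizer_singleton_iff] at hh
  have hab : ¬ (a = 0 ∧ b = 0) := fun ⟨ha, hb⟩ => hne (by rw [ha, hb, uniEl_zero])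
  have hmem : (h : SL4 F) • Cfsg.suzukiPointInfinity F ∈ Cfsg.suzukiOvoid F m :=
    (MulAction.mem_stabilizer_set.1 h.2 _).2 infinity_mem
  have hfix : (h : SL4 F) • Cfsg.suzukiPointInfinity F = Cfsg.suzukiPointInfinity F := by
    rcases mem_suzukiOvoid_iff.1 hmem with e | ⟨x, y, e⟩
    · exact e
    exfalso
    have h1 : uni m a b • ((h : SL4 F) • Cfsg.suzukiPointInfinity F) =
        (h : SL4 F) • Cfsg.suzukiPointInfinity F := by
      have := congrArg (fun x : Cfsg.Sz F m => (x : SL4 F) • Cfsg.suzukiPointInfinity F) hh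
      simp only [Subgroup.coe_mul, mul_smul, uniEl_val, uni_smul_infinity] at this
      exact this.symm
    rw [e, uni_smul_aff hS] at h1
    obtain ⟨e1, e2⟩ := affPt_injective h1
    have ha : a = 0 := by linear_combination e1
    subst ha
    simp at e2
    exact hab ⟨rfl, e2⟩
  obtain ⟨c, d, μ, rfl⟩ := pointStab_eq hS hfix
  have key : uniEl hS c d * uniEl hS (μ * a) (μ * θ m (μ : F) * b) = uniEl hS a b * uniEl hS c d := by
    have : uniEl hS c d * (torSz hS μ * uniEl hS a b * (torSz hS μ)⁻¹) =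
        uniEl hS a b * uniEl hS c d := by
      calc uniEl hS c d * (torSz hS μ * uniEl hS a b * (torSz hS μ)⁻¹)
          = (uniEl hS c d * torSz hS μ * uniEl hS a b) * (torSz hS μ)⁻¹ := by group
        _ = (uniEl hS a b * (uniEl hS c d * torSz hS μ)) * (torSz hS μ)⁻¹ := by rw [hh]
        _ = _ := by group
    rwa [torSz_conj_uniEl] at this
  rw [uniEl_mul, uniEl_mul, uniEl_eq_iff] at key
  obtain ⟨k1, k2⟩ := key
  have hμ : μ = 1 := by
    apply Units.ext
    rw [Units.val_one]
    by_cases ha : a = 0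
    · subst ha
      have hb : b ≠ 0 := fun hb => hab ⟨rfl, hb⟩
      simp at k2
      refine self_mul_θ_injective hS (mul_right_cancel₀ hb ?_)
      simp only [θ_one, mul_one, one_mul]
      linear_combination k2
    · exact mul_right_cancel₀ ha (by linear_combination k1)
  rw [hμ, map_one, mul_one]
  exact uniEl_mem hS c d

/-- Centraliser of a non-trivial torus element. -/
theorem centralizer_torSz (hS : SzField F m) {μ : Fˣ} (hμ : μ ≠ 1) :
    Subgroup.centralizer ({torSz hS μ} : Set (Cfsg.Sz F m)) = (torSz hS).range := by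
  have := hS.charP
  ext h
  rw [Subgroup.mem_centralizer_singleton_iff]
  constructor
  · intro hh
    have hfix : ∀ p : Cfsg.suzukiOvoid F m, torSz hS μ • p = p →
        (p : Projectivization F (Fin 4 → F)) = Cfsg.suzukiPointInfinity F ∨
          (p : Projectivization F (Fin 4 → F)) = Cfsg.suzukiPointZero F := by
      intro p hp
      by_contra hn
      push Not at hn
      have := sz_fix_three hS (tor m μ) (tor_mem hS μ) (infinity_mem (m := m)) zero_mem p.2
        infinity_ne_zero hn.2.symm hn.1.symm (tor_smul_infinity μ) (tor_smul_zero hS μ)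
        (congrArg Subtype.val hp)
      exact hμ (tor_injective hS (this.trans (map_one _).symm))
    have himg : ∀ p : Cfsg.suzukiOvoid F m, torSz hS μ • p = p → torSz hS μ • (h • p) = h • p := by
      intro p hp
      rw [← mul_smul, ← hh, mul_smul, hp]
    have hI : torSz hS μ • ovoidInf (F := F) (m := m) = ovoidInf := Subtype.ext (tor_smul_infinity μ)
    have hO : torSz hS μ • ovoidZero (F := F) (m := m) = ovoidZero := Subtype.ext (tor_smul_zero hS μ)
    rcases hfix _ (himg _ hI) with h1 | h1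
    · rw [← mem_pairStab_iff hS]
      refine ⟨h1, ?_⟩
      rcases hfix _ (himg _ hO) with h2 | h2
      · exact absurd (congrArg Subtype.val ((smul_left_cancel_iff h).1
          (Subtype.ext (h1.trans h2.symm) : h • ovoidInf (F := F) (m := m) = h • ovoidZero)))
          infinity_ne_zero
      · exact h2
    · exfalso
      have h2 : (h : SL4 F) • Cfsg.suzukiPointZero F = Cfsg.suzukiPointInfinity F := by
        rcases hfix _ (himg _ hO) with h2 | h2
        · exact h2
        · exact absurd (congrArg Subtype.val ((smul_left_cancel_iff h).1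
            (Subtype.ext (h1.trans h2.symm) : h • ovoidInf (F := F) (m := m) = h • ovoidZero)))
            infinity_ne_zero
      have h1' : (h : SL4 F) • Cfsg.suzukiPointInfinity F = Cfsg.suzukiPointZero F := h1
      obtain ⟨ν, hν⟩ := two_point_stabilizer hS (g := weyl * (h : SL4 F))
        ((Cfsg.Sz F m).mul_mem (weyl_mem hS) h.2)
        (by rw [mul_smul, h1', weyl_smul_zero]) (by rw [mul_smul, h2, weyl_smul_infinity])
      have hh' : (h : SL4 F) * tor m μ = tor m μ * (h : SL4 F) := congrArg Subtype.val hh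
      have hv : (h : SL4 F) = weyl * tor m ν := by rw [← hν, ← mul_assoc, weyl_mul_weyl, one_mul]
      rw [hv] at hh'
      have : tor m μ⁻¹ = tor m μ := by
        calc tor m μ⁻¹ = weyl * tor m μ * weyl := (weyl_conj_tor μ).symm
          _ = (weyl * tor m ν * tor m μ) * (tor m ν⁻¹ * weyl) := by
              rw [mul_assoc (weyl : SL4 F) (tor m ν), ← map_mul, mul_comm ν μ, map_mul]
              simp only [mul_assoc]
              rw [← mul_assoc (tor m ν) (tor m ν⁻¹), ← map_mul, mul_inv_cancel, map_one, one_mul]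
          _ = (tor m μ * (weyl * tor m ν)) * (tor m ν⁻¹ * weyl) := by rw [hh']
          _ = tor m μ := by
              simp only [mul_assoc]
              rw [← mul_assoc (tor m ν) (tor m ν⁻¹), ← map_mul, mul_inv_cancel, map_one, one_mul,
                weyl_mul_weyl, mul_one]
      have h3 : (μ : F) ^ 2 = 1 := by
        have := congrArg Units.val (tor_injective hS this)
        rw [Units.val_inv_eq_inv_val] at this
        have hμ0 := μ.ne_zero
        field_simp at this
        exact this.symm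
      exact hμ (Units.ext (CharTwo.sq_injective (show (μ : F) ^ 2 = ((1 : Fˣ) : F) ^ 2 by simpa using h3)))
  · rintro ⟨ν, rfl⟩
    rw [← map_mul, ← map_mul, mul_comm]

/-- A non-trivial element fixing a point is, up to conjugacy, unipotent or toral. -/
theorem fixesPoint_cases (hS : SzField F m) {g : Cfsg.Sz F m} (hg : g ≠ 1) (h : FixesPoint g) :
    ∃ k : Cfsg.Sz F m, (∃ a b : F, k * g * k⁻¹ = uniEl hS a b) ∨
      (∃ μ : Fˣ, μ ≠ 1 ∧ k * g * k⁻¹ = torSz hS μ) := by
  obtain ⟨k, hk⟩ := h.exists_conj_infinity hS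
  obtain ⟨a, b, μ, e⟩ := pointStab_eq hS (congrArg Subtype.val hk : _)
  by_cases hμ : μ = 1
  · exact ⟨k, Or.inl ⟨a, b, by rw [e, hμ, map_one, mul_one]⟩⟩
  haveI := hS.charP
  have hμ1 : (1 : F) + μ ≠ 0 := fun h' => hμ (Units.ext (CharTwo.add_eq_zero.1 h').symm)
  have hμ2 : (1 : F) + μ * θ m (μ : F) ≠ 0 := fun h' => hμ (Units.ext
    (self_mul_θ_injective hS (by simpa using (CharTwo.add_eq_zero.1 h').symm)))
  set x := a / (1 + (μ : F)) with hx
  set y := (b + θ m a * ((μ : F) * x)) / (1 + (μ : F) * θ m (μ : F)) with hy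
  have hfix : (k * g * k⁻¹) • (⟨_, affPt_mem (m := m) x y⟩ : Cfsg.suzukiOvoid F m) =
      ⟨_, affPt_mem (m := m) x y⟩ := by
    refine Subtype.ext ?_
    rw [e]
    show (uni m a b * tor m μ) • affPt m x y = affPt m x y
    rw [mul_smul, tor_smul_aff hS, uni_smul_aff hS]
    congr 1
    · rw [hx]; field_simp
      linear_combination (μ : F) * a * hS.two_eq_zero
    · rw [hy]; field_simp
      linear_combination (b + θ m a * (μ : F) * x) * (μ : F) * θ m (μ : F) * hS.two_eq_zero
  obtain ⟨l, hl, hl1, hl2⟩ := exists_smul_eq_base hS (infinity_mem (m := m)) (affPt_mem (m := m) x y)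
    (affPt_ne_infinity x y).symm
  have hmem : ∀ (c : SL4 F) (p : Projectivization F (Fin 4 → F)), c • p = p →
      (l * c * l⁻¹) • (l • p) = l • p := by
    intro c p hp; rw [mul_smul, mul_smul, inv_smul_smul, hp]
  obtain ⟨ν, hν⟩ := two_point_stabilizer hS (g := ((⟨l, hl⟩ : Cfsg.Sz F m) * (k * g * k⁻¹) * ⟨l, hl⟩⁻¹ : Cfsg.Sz F m))
    (SetLike.coe_mem _)
    (hl1 ▸ hmem _ _ (congrArg Subtype.val hk)) (hl2 ▸ hmem _ _ (congrArg Subtype.val hfix))
  refine ⟨⟨l, hl⟩ * k, Or.inr ⟨ν, fun h1 => hg ?_, ?_⟩⟩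
  · rw [h1, map_one] at hν
    have h3 : (⟨l, hl⟩ : Cfsg.Sz F m) * (k * g * k⁻¹) * ⟨l, hl⟩⁻¹ = 1 := Subtype.ext hν
    rw [mul_inv_eq_one, mul_eq_left, mul_inv_eq_one, mul_eq_left] at h3
    exact h3
  · rw [show (⟨l, hl⟩ * k) * g * ((⟨l, hl⟩ : Cfsg.Sz F m) * k)⁻¹ =
      ⟨l, hl⟩ * (k * g * k⁻¹) * (⟨l, hl⟩ : Cfsg.Sz F m)⁻¹ by group]
    exact Subtype.ext hν

/-- An element centralising a non-trivial element that fixes a point fixes a point. -/
theorem FixesPoint.of_commute (hS : SzField F m) {g h : Cfsg.Sz F m} (hg : g ≠ 1) (hp : FixesPoint g)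
    (hc : h * g = g * h) : FixesPoint h := by
  obtain ⟨k, hk⟩ := fixesPoint_cases hS hg hp
  have hc' : k * h * k⁻¹ * (k * g * k⁻¹) = k * g * k⁻¹ * (k * h * k⁻¹) := by
    calc k * h * k⁻¹ * (k * g * k⁻¹) = k * (h * g) * k⁻¹ := by group
      _ = k * (g * h) * k⁻¹ := by rw [hc]
      _ = _ := by group
  have main : FixesPoint (k * h * k⁻¹) := by
    rcases hk with ⟨a, b, e⟩ | ⟨μ, hμ, e⟩
    · have hne : uniEl hS a b ≠ 1 := fun h1 => hg (by
        rw [← e, mul_inv_eq_one, mul_eq_left] at h1; exact h1)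
      obtain ⟨c, d, e'⟩ := centralizer_uniEl_le hS hne
        (Subgroup.mem_centralizer_singleton_iff.2 (e ▸ hc'))
      exact ⟨ovoidInf, by rw [e']; exact Subtype.ext (uni_smul_infinity c d)⟩
    · have hm := centralizer_torSz hS hμ ▸
        (Subgroup.mem_centralizer_singleton_iff.2 (e ▸ hc') :
          k * h * k⁻¹ ∈ Subgroup.centralizer {torSz hS μ})
      obtain ⟨ν, e'⟩ := hm
      exact ⟨ovoidInf, by rw [← e']; exact Subtype.ext (tor_smul_infinity ν)⟩
  simpa [mul_assoc] using main.conj k⁻¹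

/-- An element of prime order `p` with `p ∤ q² + 1` fixes a point. -/
theorem fixesPoint_of_prime_order {p : ℕ} (hp : p.Prime)
    (hnd : ¬ p ∣ Fintype.card F ^ 2 + 1) {g : Cfsg.Sz F m} (hg : orderOf g = p) : FixesPoint g := by
  haveI := Fact.mk hp
  have hP : IsPGroup p (Subgroup.zpowers g) :=
    IsPGroup.of_card (n := 1) (by rw [Nat.card_zpowers, hg, pow_one])
  obtain ⟨x, hx⟩ := hP.nonempty_fixed_point_of_prime_not_dvd_card
    (Cfsg.suzukiOvoid F m) (by rwa [card_suzukiOvoid])
  exact ⟨x, hx ⟨g, Subgroup.mem_zpowers g⟩⟩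

/-- A derangement is centralised inside the centraliser of an anisotropic element of prime order. -/
theorem exists_anis_of_not_fixesPoint (hS : SzField F m) {g : Cfsg.Sz F m} (hg : g ≠ 1)
    (h : ¬ FixesPoint g) :
    ∃ (p : ℕ) (z : Cfsg.Sz F m), Anis F p ∧ orderOf z = p ∧
      Subgroup.centralizer ({g} : Set (Cfsg.Sz F m)) ≤ Subgroup.centralizer {z} := by
  have hn : orderOf g ≠ 1 := fun h1 => hg (orderOf_eq_one_iff.1 h1)
  obtain ⟨p, hp, hpd⟩ := Nat.exists_prime_and_dvd hn
  obtain ⟨z, hzm, hzo⟩ : ∃ z ∈ Subgroup.zpowers g, orderOf z = p := by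
    refine ⟨g ^ (orderOf g / p), pow_mem (Subgroup.mem_zpowers g) _, ?_⟩
    exact orderOf_pow_orderOf_div (orderOf_pos g).ne' hpd
  have hcz : ∀ x, x * g = g * x → x * z = z * x := by
    intro x hx
    obtain ⟨i, rfl⟩ := Subgroup.mem_zpowers_iff.1 hzm
    exact ((Commute.zpow_right hx i)).eq
  refine ⟨p, z, ⟨hp, ?_⟩, hzo, fun x hx => Subgroup.mem_centralizer_singleton_iff.2
    (hcz x (Subgroup.mem_centralizer_singleton_iff.1 hx))⟩
  by_contra hnd
  have hz1 : z ≠ 1 := fun h1 => hp.ne_one (by rw [← hzo, h1, orderOf_one])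
  exact h ((fixesPoint_of_prime_order hp hnd hzo).of_commute hS hz1 (hcz g rfl))

/-- The Suzuki group is a CN-group. -/
theorem isCNGroup_sz (hS : SzField F m) : Cfsg.IsCNGroup (Cfsg.Sz F m) := by
  haveI : Fact (Nat.Prime 2) := ⟨Nat.prime_two⟩
  intro g hg
  by_cases h : FixesPoint g
  · obtain ⟨k, hk⟩ := fixesPoint_cases hS hg h
    let φ : Subgroup.centralizer ({g} : Set (Cfsg.Sz F m)) →*
        Subgroup.centralizer ({k * g * k⁻¹} : Set (Cfsg.Sz F m)) :=
      ((MulAut.conj k).toMonoidHom.comp (Subgroup.centralizer {g}).subtype).codRestrict _ (fun x => by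
        rw [Subgroup.mem_centralizer_singleton_iff]
        show k * (x : Cfsg.Sz F m) * k⁻¹ * (k * g * k⁻¹) = k * g * k⁻¹ * (k * x * k⁻¹)
        calc k * (x : Cfsg.Sz F m) * k⁻¹ * (k * g * k⁻¹) = k * ((x : Cfsg.Sz F m) * g) * k⁻¹ := by group
          _ = k * (g * (x : Cfsg.Sz F m)) * k⁻¹ := by rw [Subgroup.mem_centralizer_singleton_iff.1 x.2]
          _ = _ := by group)
    have hφ : Function.Injective φ := fun x y hxy => by
      have h0 : k * (x : Cfsg.Sz F m) * k⁻¹ = k * y * k⁻¹ := congrArg Subtype.val hxy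
      exact Subtype.ext (mul_left_cancel (mul_right_cancel h0))
    rcases hk with ⟨a, b, e⟩ | ⟨μ, hμ, e⟩
    · have hne : uniEl hS a b ≠ 1 := fun h1 => hg (by
        rw [← e, mul_inv_eq_one, mul_eq_left] at h1; exact h1)
      have hle : Subgroup.centralizer ({k * g * k⁻¹} : Set (Cfsg.Sz F m)) ≤ uniSub hS :=
        e ▸ centralizer_uniEl_le hS hne
      exact (((isPGroup_uniSub hS).to_le hle).of_injective φ hφ).isNilpotent
    · haveI : IsCyclic (Subgroup.centralizer ({k * g * k⁻¹} : Set (Cfsg.Sz F m))) := by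
        rw [e, centralizer_torSz hS hμ]
        exact isCyclic_of_surjective _ (torSz hS).rangeRestrict_surjective
      haveI := isCyclic_of_injective φ hφ
      letI := IsCyclic.commGroup (α := Subgroup.centralizer ({g} : Set (Cfsg.Sz F m)))
      exact CommGroup.isNilpotent
  · obtain ⟨p, z, hp, hz, hle⟩ := exists_anis_of_not_fixesPoint hS hg h
    haveI := isCyclic_centralizer_of_anis hS hp hz
    haveI := isCyclic_of_injective (Subgroup.inclusion hle) (Subgroup.inclusion_injective hle)
    letI := IsCyclic.commGroup (α := Subgroup.centralizer ({g} : Set (Cfsg.Sz F m)))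
    exact CommGroup.isNilpotent

/-- Sylow subgroups for odd primes are cyclic. -/
theorem isCyclic_sylow (hS : SzField F m) {p : ℕ} [hp : Fact p.Prime] (hp2 : p ≠ 2)
    (P : Sylow p (Cfsg.Sz F m)) : IsCyclic P := by
  have hq : Fintype.card F = 2 ^ (2 * m + 1) := hS.card_eq
  have hcop : ¬ p ∣ Fintype.card F := fun h => hp2
    ((Nat.prime_dvd_prime_iff_eq hp.out Nat.prime_two).1 (hp.out.dvd_of_dvd_pow (hq ▸ h)))
  by_cases hA : p ∣ Fintype.card F ^ 2 + 1
  · by_cases hP : (P : Subgroup (Cfsg.Sz F m)) = ⊥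
    · rw [hP]; infer_instance
    have hnt : Nontrivial P := (Subgroup.nontrivial_iff_ne_bot _).2 hP
    have hZ := P.2.center_nontrivial
    obtain ⟨⟨z, hzc⟩, hz1⟩ := exists_ne (1 : Subgroup.center P)
    obtain ⟨k, hk⟩ := IsPGroup.iff_orderOf.1 P.2 z
    have hk0 : k ≠ 0 := by
      rintro rfl
      rw [pow_zero, orderOf_eq_one_iff] at hk
      exact hz1 (Subtype.ext hk)
    have hdvd : p ∣ orderOf z := hk ▸ dvd_pow_self p hk0
    have hzo : orderOf (z ^ (orderOf z / p)) = p := orderOf_pow_orderOf_div (orderOf_pos z).ne' hdvd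
    set w : Cfsg.Sz F m := ((z ^ (orderOf z / p) : P) : Cfsg.Sz F m) with hw
    have hwo : orderOf w = p := by rw [hw, Subgroup.orderOf_coe]; exact hzo
    haveI := isCyclic_centralizer_of_anis hS ⟨hp.out, hA⟩ hwo
    have hle : (P : Subgroup (Cfsg.Sz F m)) ≤ Subgroup.centralizer {w} := by
      intro x hx
      rw [Subgroup.mem_centralizer_singleton_iff, hw]
      exact congrArg Subtype.val
        (Subgroup.mem_center_iff.1 (pow_mem hzc (orderOf z / p)) ⟨x, hx⟩)
    exact isCyclic_of_injective (Subgroup.inclusion hle) (Subgroup.inclusion_injective hle)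
  · let T := (torSz (F := F) hS).range
    haveI : IsCyclic T := isCyclic_of_surjective _ (torSz hS).rangeRestrict_surjective
    have hT : Nat.card T = Fintype.card F - 1 := by
      rw [← Nat.card_congr (MonoidHom.ofInjective (torSz_injective hS)).toEquiv, Nat.card_units,
        Nat.card_eq_fintype_card]
    obtain ⟨R⟩ : Nonempty (Sylow p T) := inferInstance
    let R' : Subgroup (Cfsg.Sz F m) := (R : Subgroup T).map T.subtype
    have hRcard : Nat.card R' = p ^ (Nat.card (Cfsg.Sz F m)).factorization p := by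
      rw [Subgroup.card_map_of_injective T.subtype_injective, R.card_eq_multiplicity, hT, card_sz hS]
      congr 1
      have h0 : Fintype.card F ^ 2 ≠ 0 := pow_ne_zero _ Fintype.card_ne_zero
      have h1 : Fintype.card F - 1 ≠ 0 := by have := hS.eight_le; omega
      rw [Nat.factorization_mul (mul_ne_zero h0 (by omega)) h1, Nat.factorization_mul h0 (by omega),
        Nat.factorization_pow]
      simp [Nat.factorization_eq_zero_of_not_dvd hA, Nat.factorization_eq_zero_of_not_dvd hcop]
    let Q : Sylow p (Cfsg.Sz F m) := Sylow.ofCard R' hRcard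
    haveI : IsCyclic Q := by
      have hle : (Q : Subgroup (Cfsg.Sz F m)) ≤ T := by
        rintro x ⟨y, _, rfl⟩; exact y.2
      exact isCyclic_of_injective (Subgroup.inclusion hle) (Subgroup.inclusion_injective hle)
    exact isCyclic_of_surjective (Sylow.equiv Q P).toMonoidHom (Sylow.equiv Q P).surjective

end CfsgLib.Suzuki
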