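import Mathlib

/-!
The field with `2 ^ (2m+1)` elements and its endomorphism `x ↦ x ^ (2 ^ (m+1))`, whose square is the Frobenius map.
-/

set_option autoImplicit false
set_option linter.unusedSectionVars false
set_option linter.style.haveILetI false

namespace CfsgLib.Suzuki

/-- A field meant to carry a Suzuki group: `2 ^ (2m+1)` elements, `m ≥ 1`. -/
structure SzField (F : Type*) [Field F] [Fintype F] (m : ℕ) : Prop where
  one_le : 1 ≤ m
  card_eq : Fintype.card F = 2 ^ (2 * m + 1)

variable {F : Type*} [Field F] [Fintype F] {m : ℕ}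

theorem SzField.charP (hS : SzField F m) : CharP F 2 :=
  haveI : Fact (Nat.Prime 2) := ⟨Nat.prime_two⟩
  charP_of_card_eq_prime_pow hS.card_eq

theorem SzField.two_eq_zero (hS : SzField F m) : (2 : F) = 0 := by
  have := hS.charP
  exact CharTwo.two_eq_zero

theorem SzField.eight_le (hS : SzField F m) : 8 ≤ Fintype.card F := by
  rw [hS.card_eq]
  calc 8 = 2 ^ 3 := by norm_num
    _ ≤ 2 ^ (2 * m + 1) := Nat.pow_le_pow_right (by norm_num) (by have := hS.one_le; omega)

/-- The endomorphism `θ : x ↦ x ^ (2 ^ (m+1))`. -/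
def θ (m : ℕ) (x : F) : F := x ^ (2 ^ (m + 1))

theorem θ_def (x : F) : θ m x = x ^ (2 ^ (m + 1)) := rfl

theorem θ_mul (x y : F) : θ m (x * y) = θ m x * θ m y := mul_pow _ _ _

theorem θ_pow (x : F) (n : ℕ) : θ m (x ^ n) = θ m x ^ n := by
  simp only [θ, ← pow_mul, Nat.mul_comm]

@[simp] theorem θ_zero : θ m (0 : F) = 0 := zero_pow (by positivity)

@[simp] theorem θ_one : θ m (1 : F) = 1 := one_pow _

theorem θ_inv (x : F) : θ m x⁻¹ = (θ m x)⁻¹ := inv_pow x _

theorem θ_add (hS : SzField F m) (x y : F) : θ m (x + y) = θ m x + θ m y := by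
  have := hS.charP
  haveI : Fact (Nat.Prime 2) := ⟨Nat.prime_two⟩
  exact add_pow_char_pow x y 2 (m + 1)

theorem θ_θ (hS : SzField F m) (x : F) : θ m (θ m x) = x ^ 2 := by
  have h : 2 ^ (m + 1) * 2 ^ (m + 1) = Fintype.card F * 2 := by
    rw [hS.card_eq, ← pow_add, ← pow_succ]; congr 1; omega
  rw [θ, θ, ← pow_mul, h, pow_mul, FiniteField.pow_card]

theorem θ_eq_zero {x : F} : θ m x = 0 ↔ x = 0 := by
  simp [θ]

theorem θ_injective (hS : SzField F m) : Function.Injective (θ m : F → F) := by
  intro x y h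
  have h2 : x ^ 2 = y ^ 2 := by rw [← θ_θ hS, ← θ_θ hS, h]
  have := hS.charP
  exact CharTwo.sq_injective h2

/-- The only fixed points of `θ` are `0` and `1`. -/
theorem θ_fixed (hS : SzField F m) {x : F} (h : θ m x = x) : x = 0 ∨ x = 1 := by
  have h2 : x ^ 2 = x := by rw [← θ_θ hS, h, h]
  rcases eq_or_ne x 0 with rfl | hx
  · exact Or.inl rfl
  · exact Or.inr (mul_left_cancel₀ hx (by rw [← pow_two, h2, mul_one]))

/-- There is an element moved by `θ`. -/
theorem exists_θ_ne (hS : SzField F m) : ∃ x : F, x ≠ 0 ∧ θ m x ≠ x := by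
  classical
  have h : ({0, 1} : Finset F).card < (Finset.univ : Finset F).card := by
    have := hS.eight_le
    have h2 : ({0, 1} : Finset F).card ≤ 2 := Finset.card_le_two
    simp only [Finset.card_univ]; omega
  obtain ⟨x, -, hx⟩ := Finset.exists_mem_notMem_of_card_lt_card h
  simp only [Finset.mem_insert, Finset.mem_singleton, not_or] at hx
  exact ⟨x, hx.1, fun hc => by rcases θ_fixed hS hc with h | h <;> simp_all⟩

/-- `θ z + z + 1 = 0` has no solution. -/
theorem θ_add_self_ne_one (hS : SzField F m) (z : F) : θ m z + z + 1 ≠ 0 := by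
  intro h
  have := hS.charP
  have h' : θ m z = z + 1 := by
    have := congrArg (· + (z + 1)) h
    simpa [add_assoc, CharTwo.add_self_eq_zero] using this
  have h1 : z ^ 2 = θ m z + θ m 1 := by rw [← θ_θ hS, h', θ_add hS, h']
  rw [h', θ_one] at h1
  have h2 : z * z = z * 1 := by
    rw [← pow_two, h1, add_assoc, CharTwo.add_self_eq_zero, add_zero, mul_one]
  rcases eq_or_ne z 0 with rfl | hz
  · simp at h
  · obtain rfl := mul_left_cancel₀ hz h2
    simp [CharTwo.add_self_eq_zero] at h

/-- The map `x ↦ x * θ x` is injective. -/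
theorem self_mul_θ_injective (hS : SzField F m) :
    Function.Injective (fun x : F => x * θ m x) := by
  intro x y h
  simp only at h
  rcases eq_or_ne y 0 with rfl | hy
  · rw [θ_zero, mul_zero] at h
    rcases mul_eq_zero.1 h with h' | h'
    · exact h'
    · exact θ_eq_zero.1 h'
  have hty : θ m y ≠ 0 := fun h' => hy (θ_eq_zero.1 h')
  have hz : (x / y) * θ m (x / y) = 1 := by
    rw [div_eq_mul_inv, θ_mul, θ_inv]
    field_simp
    linear_combination h
  set z := x / y with hzdef
  have hz0 : z ≠ 0 := fun h0 => by simp [h0] at hz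
  have h1 : θ m z = z⁻¹ := eq_inv_of_mul_eq_one_right hz
  have h2 : z ^ 2 = z := by rw [← θ_θ hS, h1, θ_inv, h1, inv_inv]
  have h3 : z = 1 := mul_left_cancel₀ hz0 (by rw [← pow_two, h2, mul_one])
  exact (div_eq_one_iff_eq hy).1 h3

theorem self_mul_θ_surjective (hS : SzField F m) :
    Function.Surjective (fun x : F => x * θ m x) :=
  Finite.surjective_of_injective (self_mul_θ_injective hS)

theorem pow_two_pow_bijective (hS : SzField F m) (k : ℕ) :
    Function.Bijective (fun x : F => x ^ (2 ^ k)) := by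
  have := hS.charP
  haveI : Fact (Nat.Prime 2) := ⟨Nat.prime_two⟩
  exact Finite.injective_iff_bijective.1 (iterateFrobenius_inj F 2 k)

theorem pow_four_eq_one (hS : SzField F m) {x : F} (h : x ^ 4 = 1) : x = 1 :=
  (pow_two_pow_bijective hS 2).1 (by simpa using h)

end CfsgLib.Suzuki
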