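import Cfsg.Prelude.Def_LieExceptional
import Cfsg.Agent.Suzuki.Field

/-!
The Suzuki–Tits point set: parametrisation and cardinality.
-/

set_option autoImplicit false
set_option linter.unusedSectionVars false

namespace CfsgLib.Suzuki

variable {F : Type*} [Field F] {m : ℕ}

/-- The height function `x y + x ^ (σ+2) + y ^ σ` of the Suzuki–Tits ovoid. -/
def szF (m : ℕ) (x y : F) : F := x * y + x ^ 2 * θ m x + θ m y

theorem szF_eq (x y : F) :
    szF m x y = x * y + x ^ (2 ^ (m + 1) + 2) + y ^ (2 ^ (m + 1)) := by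
  rw [szF, θ, θ, pow_add]; ring

/-- Affine representative of an ovoid point. -/
def affVec (m : ℕ) (x y : F) : Fin 4 → F := ![szF m x y, y, x, 1]

theorem affVec_ne_zero (x y : F) : affVec m x y ≠ 0 := fun h => by
  simpa [affVec] using congrFun h 3

/-- An affine ovoid point. -/
def affPt (m : ℕ) (x y : F) : Projectivization F (Fin 4 → F) :=
  Projectivization.mk F (affVec m x y) (affVec_ne_zero x y)

theorem mem_suzukiOvoid_iff {p : Projectivization F (Fin 4 → F)} :
    p ∈ Cfsg.suzukiOvoid F m ↔ p = Cfsg.suzukiPointInfinity F ∨ ∃ x y : F, p = affPt m x y := by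
  constructor
  · rintro ⟨v, hv, rfl, (rfl | ⟨x, y, rfl⟩)⟩
    · exact Or.inl rfl
    · exact Or.inr ⟨x, y, by simp [affPt, affVec, szF_eq]⟩
  · rintro (rfl | ⟨x, y, rfl⟩)
    · exact ⟨_, by simp, rfl, Or.inl rfl⟩
    · exact ⟨affVec m x y, affVec_ne_zero x y, rfl, Or.inr ⟨x, y, by simp [affVec, szF_eq]⟩⟩

theorem affPt_ne_infinity (x y : F) : affPt m x y ≠ Cfsg.suzukiPointInfinity F := by
  intro h
  obtain ⟨a, ha⟩ := (Projectivization.mk_eq_mk_iff' F _ _ _ _).1 h
  simpa [affVec] using congrFun ha 3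

theorem affPt_injective {x y x' y' : F} (h : affPt m x y = affPt m x' y') : x = x' ∧ y = y' := by
  obtain ⟨a, ha⟩ := (Projectivization.mk_eq_mk_iff' F _ _ _ _).1 h
  have h3 : a = 1 := by simpa [affVec] using congrFun ha 3
  subst h3
  rw [one_smul] at ha
  have h2 : x' = x := by simpa [affVec] using congrFun ha 2
  have h1 : y' = y := by simpa [affVec] using congrFun ha 1
  exact ⟨h2.symm, h1.symm⟩

theorem affPt_zero : affPt m (0 : F) 0 = Cfsg.suzukiPointZero F := by
  simp [affPt, affVec, szF, θ, Cfsg.suzukiPointZero]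

theorem infinity_mem : Cfsg.suzukiPointInfinity F ∈ Cfsg.suzukiOvoid F m :=
  mem_suzukiOvoid_iff.2 (Or.inl rfl)

theorem affPt_mem (x y : F) : affPt m x y ∈ Cfsg.suzukiOvoid F m :=
  mem_suzukiOvoid_iff.2 (Or.inr ⟨x, y, rfl⟩)

theorem zero_mem : Cfsg.suzukiPointZero F ∈ Cfsg.suzukiOvoid F m :=
  affPt_zero (F := F) (m := m) ▸ affPt_mem 0 0

theorem infinity_ne_zero : Cfsg.suzukiPointInfinity F ≠ Cfsg.suzukiPointZero F := by
  rw [← affPt_zero (m := 0)]
  exact (affPt_ne_infinity 0 0).symm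

/-- The ovoid is in bijection with `Option (F × F)`. -/
noncomputable def ovoidEquiv (F : Type*) [Field F] (m : ℕ) :
    Option (F × F) ≃ Cfsg.suzukiOvoid F m :=
  Equiv.ofBijective
    (fun o => match o with
      | none => ⟨Cfsg.suzukiPointInfinity F, infinity_mem⟩
      | some p => ⟨affPt m p.1 p.2, affPt_mem p.1 p.2⟩)
    ⟨by
      rintro (_ | ⟨x, y⟩) (_ | ⟨x', y'⟩) h <;> simp only [Subtype.mk.injEq] at h
      · rfl
      · exact absurd h (affPt_ne_infinity x' y').symm
      · exact absurd h (affPt_ne_infinity x y)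
      · obtain ⟨rfl, rfl⟩ := affPt_injective h
        rfl,
     by
      rintro ⟨p, hp⟩
      rcases mem_suzukiOvoid_iff.1 hp with rfl | ⟨x, y, rfl⟩
      · exact ⟨none, rfl⟩
      · exact ⟨some (x, y), rfl⟩⟩

/-- The ovoid has `|F| ^ 2 + 1` points. -/
theorem card_suzukiOvoid [Fintype F] (m : ℕ) :
    Nat.card (Cfsg.suzukiOvoid F m) = Fintype.card F ^ 2 + 1 := by
  rw [← Nat.card_congr (ovoidEquiv F m), Nat.card_eq_fintype_card, Fintype.card_option,
    Fintype.card_prod, pow_two]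

end CfsgLib.Suzuki
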