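import Cfsg.Agent.Suzuki.Ovoid

/-!
Generators `uni a b`, `tor μ`, `weyl` of the Suzuki group and their action on the ovoid.
-/

set_option autoImplicit false
set_option linter.unusedSectionVars false
set_option linter.unusedSimpArgs false
set_option linter.unusedTactic false
set_option linter.unreachableTactic false

namespace CfsgLib.Suzuki

open scoped Matrix

local notation "SL4" F:max => Matrix.SpecialLinearGroup (Fin 4) F

variable {F : Type*} [Field F] [Fintype F] {m : ℕ}

theorem smul_mk_eq (g : SL4 F) {v w : Fin 4 → F} (hv : v ≠ 0) (hw : w ≠ 0) (c : F)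
    (h : (g : Matrix (Fin 4) (Fin 4) F) *ᵥ v = c • w) :
    g • Projectivization.mk F v hv = Projectivization.mk F w hw := by
  rw [Projectivization.smul_mk, Projectivization.mk_eq_mk_iff']
  exact ⟨c, h.symm⟩

theorem exists_of_smul_mk_eq (g : SL4 F) {v w : Fin 4 → F} (hv : v ≠ 0) (hw : w ≠ 0)
    (h : g • Projectivization.mk F v hv = Projectivization.mk F w hw) :
    ∃ c : F, (g : Matrix (Fin 4) (Fin 4) F) *ᵥ v = c • w := by
  rw [Projectivization.smul_mk, Projectivization.mk_eq_mk_iff'] at h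
  obtain ⟨c, hc⟩ := h
  exact ⟨c, hc.symm⟩

/-- The unipotent matrix attached to the affine ovoid point `(a, b)`. -/
def uniMat (m : ℕ) (a b : F) : Matrix (Fin 4) (Fin 4) F :=
  !![1, a, b + a * θ m a, szF m a b; 0, 1, θ m a, b; 0, 0, 1, a; 0, 0, 0, 1]

theorem uniMat_det (a b : F) : (uniMat m a b).det = 1 := by
  simp [uniMat, Matrix.det_succ_row_zero, Fin.sum_univ_succ, Fin.succAbove]

/-- The unipotent element of `SL₄` attached to `(a, b)`. -/
def uni (m : ℕ) (a b : F) : SL4 F := ⟨uniMat m a b, uniMat_det a b⟩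

/-- The torus matrix attached to `μ`. -/
def torMat (m : ℕ) (μ : Fˣ) : Matrix (Fin 4) (Fin 4) F :=
  !![(μ : F) ^ (2 ^ m + 1), 0, 0, 0; 0, (μ : F) ^ (2 ^ m), 0, 0;
     0, 0, ((μ : F) ^ (2 ^ m))⁻¹, 0; 0, 0, 0, ((μ : F) ^ (2 ^ m + 1))⁻¹]

theorem torMat_det (μ : Fˣ) : (torMat m μ).det = 1 := by
  have h1 : (μ : F) ^ (2 ^ m + 1) ≠ 0 := pow_ne_zero _ μ.ne_zero
  have h2 : (μ : F) ^ (2 ^ m) ≠ 0 := pow_ne_zero _ μ.ne_zero
  simp [torMat, Matrix.det_succ_row_zero, Fin.sum_univ_succ, Fin.succAbove, h1]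

/-- The torus, as a homomorphism from `Fˣ`. -/
def tor (m : ℕ) : Fˣ →* SL4 F where
  toFun μ := ⟨torMat m μ, torMat_det μ⟩
  map_one' := by
    apply Subtype.ext
    ext i j
    fin_cases i <;> fin_cases j <;> simp [torMat]
  map_mul' μ ν := by
    apply Subtype.ext
    show torMat m (μ * ν) = torMat m μ * torMat m ν
    ext i j
    fin_cases i <;> fin_cases j <;>
      simp [torMat, Matrix.mul_apply, Fin.sum_univ_succ, mul_pow, mul_comm]

/-- The antidiagonal matrix. -/
def weylMat : Matrix (Fin 4) (Fin 4) F :=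
  !![0, 0, 0, 1; 0, 0, 1, 0; 0, 1, 0, 0; 1, 0, 0, 0]

theorem weylMat_det : (weylMat : Matrix (Fin 4) (Fin 4) F).det = 1 := by
  simp [weylMat, Matrix.det_succ_row_zero, Fin.sum_univ_succ, Fin.succAbove]
  norm_num

/-- The antidiagonal element of `SL₄` interchanging the two base points. -/
def weyl : SL4 F := ⟨weylMat, weylMat_det⟩

theorem uni_val (a b : F) :
    ((uni m a b : SL4 F) : Matrix (Fin 4) (Fin 4) F) = uniMat m a b := rfl

theorem tor_val (μ : Fˣ) :
    ((tor m μ : SL4 F) : Matrix (Fin 4) (Fin 4) F) = torMat m μ := rfl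

theorem weyl_val : ((weyl : SL4 F) : Matrix (Fin 4) (Fin 4) F) = weylMat := rfl

theorem SzField.three_eq_one (hS : SzField F m) : (3 : F) = 1 := by
  linear_combination hS.two_eq_zero

theorem SzField.four_eq_zero (hS : SzField F m) : (4 : F) = 0 := by
  linear_combination 2 * hS.two_eq_zero

theorem szF_add (hS : SzField F m) (a b x y : F) :
    szF m (x + a) (y + b + θ m a * x) =
      szF m x y + a * y + (b + a * θ m a) * x + szF m a b := by
  have := hS.charP
  simp only [szF, θ_add hS, θ_mul, θ_θ hS]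
  ring_nf
  simp [hS.two_eq_zero, hS.three_eq_one, hS.four_eq_zero]

theorem szF_eq_zero (hS : SzField F m) {x y : F} (h : szF m x y = 0) : x = 0 ∧ y = 0 := by
  rcases eq_or_ne x 0 with rfl | hx
  · simp [szF, θ_eq_zero] at h
    exact ⟨rfl, h⟩
  · exfalso
    have hθ : θ m x ≠ 0 := fun h' => hx (θ_eq_zero.1 h')
    have key : θ m (y / (x * θ m x)) + y / (x * θ m x) + 1 = 0 := by
      rw [div_eq_mul_inv, θ_mul, θ_inv, θ_mul, θ_θ hS]
      field_simp
      rw [szF] at h
      linear_combination h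
    exact θ_add_self_ne_one hS _ key

theorem szF_inversion (hS : SzField F m) {x y : F} (hf : szF m x y ≠ 0) :
    szF m (y / szF m x y) (x / szF m x y) = 1 / szF m x y := by
  have := hS.charP
  have hθ : θ m (szF m x y) ≠ 0 := fun h => hf (θ_eq_zero.1 h)
  set f := szF m x y with hfdef
  rw [szF, div_eq_mul_inv y, div_eq_mul_inv x, θ_mul, θ_mul, θ_inv]
  field_simp
  simp only [hfdef, szF, θ_add hS, θ_mul, θ_pow, θ_θ hS]
  ring_nf
  simp [hS.two_eq_zero, hS.three_eq_one, hS.four_eq_zero]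

theorem uni_mulVec (hS : SzField F m) (a b x y : F) :
    (uniMat m a b) *ᵥ affVec m x y = affVec m (x + a) (y + b + θ m a * x) := by
  ext i
  fin_cases i <;>
    simp [uniMat, affVec, Matrix.mulVec, dotProduct, Fin.sum_univ_succ, szF_add hS] <;> ring

theorem uni_smul_aff (hS : SzField F m) (a b x y : F) :
    uni m a b • affPt m x y = affPt m (x + a) (y + b + θ m a * x) :=
  smul_mk_eq _ _ _ 1 (by rw [one_smul]; exact uni_mulVec hS a b x y)

theorem uni_smul_infinity (a b : F) :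
    uni m a b • Cfsg.suzukiPointInfinity F = Cfsg.suzukiPointInfinity F :=
  smul_mk_eq _ _ _ 1 (by
    ext i; fin_cases i <;>
      simp [uni_val, uniMat, Matrix.mulVec, dotProduct, Fin.sum_univ_succ])

theorem tor_smul_infinity (μ : Fˣ) :
    tor m μ • Cfsg.suzukiPointInfinity F = Cfsg.suzukiPointInfinity F :=
  smul_mk_eq _ _ _ ((μ : F) ^ (2 ^ m + 1)) (by
    ext i; fin_cases i <;>
      simp [tor_val, torMat, Matrix.mulVec, dotProduct, Fin.sum_univ_succ])

theorem θ_units (μ : Fˣ) : θ m (μ : F) = (μ : F) ^ (2 ^ m) * (μ : F) ^ (2 ^ m) := by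
  rw [θ, ← pow_add]; congr 1; ring

theorem tor_smul_aff (hS : SzField F m) (μ : Fˣ) (x y : F) :
    tor m μ • affPt m x y = affPt m (μ * x) (μ * θ m (μ : F) * y) := by
  have hr : (μ : F) ^ (2 ^ m) ≠ 0 := pow_ne_zero _ μ.ne_zero
  refine smul_mk_eq _ _ _ ((μ : F) ^ (2 ^ m + 1))⁻¹ ?_
  have e : szF m ((μ : F) * x) (μ * θ m (μ : F) * y) = μ ^ 2 * θ m (μ : F) * szF m x y := by
    simp only [szF, θ_mul, θ_θ hS]; ring
  ext i
  fin_cases i <;>
    simp [tor_val, torMat, affVec, Matrix.mulVec, dotProduct, Fin.sum_univ_succ, e] <;>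
    (try simp only [θ_units]) <;> field_simp <;> ring

theorem weyl_smul_infinity :
    (weyl : SL4 F) • Cfsg.suzukiPointInfinity F = Cfsg.suzukiPointZero F :=
  smul_mk_eq _ _ _ 1 (by
    ext i; fin_cases i <;>
      simp [weyl_val, weylMat, Matrix.mulVec, dotProduct, Fin.sum_univ_succ])

theorem weyl_smul_zero :
    (weyl : SL4 F) • Cfsg.suzukiPointZero F = Cfsg.suzukiPointInfinity F :=
  smul_mk_eq _ _ _ 1 (by
    ext i; fin_cases i <;>
      simp [weyl_val, weylMat, Matrix.mulVec, dotProduct, Fin.sum_univ_succ])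

theorem weyl_smul_aff (hS : SzField F m) {x y : F} (hxy : x ≠ 0 ∨ y ≠ 0) :
    (weyl : SL4 F) • affPt m x y = affPt m (y / szF m x y) (x / szF m x y) := by
  have hf : szF m x y ≠ 0 := fun h => by
    have := szF_eq_zero hS h; tauto
  refine smul_mk_eq _ _ _ (szF m x y) ?_
  ext i
  fin_cases i <;>
    simp [weyl_val, weylMat, affVec, Matrix.mulVec, dotProduct, Fin.sum_univ_succ, szF_inversion hS hf] <;>
    field_simp

theorem uni_mem (hS : SzField F m) (a b : F) : uni m a b ∈ Cfsg.Sz F m := by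
  rw [MulAction.mem_stabilizer_set' (Set.toFinite _)]
  intro p hp
  rcases mem_suzukiOvoid_iff.1 hp with rfl | ⟨x, y, rfl⟩
  · rw [uni_smul_infinity]; exact infinity_mem
  · rw [uni_smul_aff hS]; exact affPt_mem _ _

theorem tor_mem (hS : SzField F m) (μ : Fˣ) : tor m μ ∈ Cfsg.Sz F m := by
  rw [MulAction.mem_stabilizer_set' (Set.toFinite _)]
  intro p hp
  rcases mem_suzukiOvoid_iff.1 hp with rfl | ⟨x, y, rfl⟩
  · rw [tor_smul_infinity]; exact infinity_mem
  · rw [tor_smul_aff hS]; exact affPt_mem _ _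

theorem weyl_mem (hS : SzField F m) : (weyl : SL4 F) ∈ Cfsg.Sz F m := by
  rw [MulAction.mem_stabilizer_set' (Set.toFinite _)]
  intro p hp
  rcases mem_suzukiOvoid_iff.1 hp with rfl | ⟨x, y, rfl⟩
  · rw [weyl_smul_infinity]; exact zero_mem
  · by_cases h : x ≠ 0 ∨ y ≠ 0
    · rw [weyl_smul_aff hS h]; exact affPt_mem _ _
    · push Not at h
      obtain ⟨rfl, rfl⟩ := h
      rw [affPt_zero, weyl_smul_zero]; exact infinity_mem

theorem uni_mul (hS : SzField F m) (a b c d : F) :
    uni m a b * uni m c d = uni m (a + c) (b + d + θ m a * c) := by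
  have := hS.charP
  apply Subtype.ext
  simp only [Matrix.SpecialLinearGroup.coe_mul, uni_val]
  ext i j
  fin_cases i <;> fin_cases j <;>
    simp [uni_val, uniMat, szF, Matrix.mul_apply, Fin.sum_univ_succ, θ_add hS, θ_mul, θ_θ hS] <;>
    ring_nf <;> simp [hS.two_eq_zero, hS.three_eq_one, hS.four_eq_zero]

theorem uni_zero : uni m (0 : F) 0 = 1 := by
  apply Subtype.ext
  ext i j
  fin_cases i <;> fin_cases j <;> simp [uni_val, uniMat, szF]

theorem uni_eq_iff {a b c d : F} : uni m a b = uni m c d ↔ a = c ∧ b = d := by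
  refine ⟨fun h => ?_, by rintro ⟨rfl, rfl⟩; rfl⟩
  have h' := congrArg (fun g : SL4 F => (g : Matrix (Fin 4) (Fin 4) F)) h
  exact ⟨by simpa [uni_val, uniMat] using congrFun (congrFun h' 2) 3,
    by simpa [uni_val, uniMat] using congrFun (congrFun h' 1) 3⟩

theorem tor_injective (hS : SzField F m) : Function.Injective (tor (F := F) m) := by
  intro μ ν h
  have h' := congrArg (fun g : SL4 F => (g : Matrix (Fin 4) (Fin 4) F)) h
  have h1 : (μ : F) ^ (2 ^ m) = (ν : F) ^ (2 ^ m) := by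
    simpa [tor_val, torMat] using congrFun (congrFun h' 1) 1
  exact Units.ext ((pow_two_pow_bijective hS m).1 h1)

theorem tor_conj_uni (hS : SzField F m) (μ : Fˣ) (a b : F) :
    tor m μ * uni m a b = uni m (μ * a) (μ * θ m (μ : F) * b) * tor m μ := by
  have hr : (μ : F) ^ (2 ^ m) ≠ 0 := pow_ne_zero _ μ.ne_zero
  apply Subtype.ext
  simp only [Matrix.SpecialLinearGroup.coe_mul, uni_val, tor_val, weyl_val]
  ext i j
  fin_cases i <;> fin_cases j <;>
    simp [uni_val, uniMat, szF, tor_val, torMat, Matrix.mul_apply, Fin.sum_univ_succ, θ_mul, θ_θ hS] <;>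
    simp only [θ_units, pow_succ] <;>
    field_simp <;> ring

theorem weyl_mul_weyl : (weyl : SL4 F) * weyl = 1 := by
  apply Subtype.ext
  show weylMat * weylMat = (1 : Matrix (Fin 4) (Fin 4) F)
  ext i j
  fin_cases i <;> fin_cases j <;> simp [weyl_val, weylMat, Matrix.mul_apply, Fin.sum_univ_succ]

theorem weyl_conj_tor (μ : Fˣ) : weyl * tor m μ * weyl = tor m μ⁻¹ := by
  apply Subtype.ext
  simp only [Matrix.SpecialLinearGroup.coe_mul, uni_val, tor_val, weyl_val]
  ext i j
  fin_cases i <;> fin_cases j <;>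
    simp [weyl_val, weylMat, tor_val, torMat, Matrix.mul_apply, Fin.sum_univ_succ]

end CfsgLib.Suzuki
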